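import Mathlib

/-!
# Orders of the linear groups over a finite field

`|GL|`, `|SL|`, `|PGL|`, `|PSL|`, the centres, and isomorphisms induced by bijections of index
types and isomorphisms of fields.
-/

set_option autoImplicit false

namespace CfsgLib.Linear

open scoped MatrixGroups
open Matrix

section Equivs

variable {m n : Type*} [Fintype m] [DecidableEq m] [Fintype n] [DecidableEq n]
  {R S : Type*} [CommRing R] [CommRing S]

/-- `GL m R ≃* GL n R` from a bijection of index types. -/
def glReindex (e : m ≃ n) : GL m R ≃* GL n R :=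
  Units.mapEquiv (Matrix.reindexAlgEquiv R R e).toMulEquiv

/-- `GL n R ≃* GL n S` from a ring isomorphism. -/
def glMapEquiv (e : R ≃+* S) : GL n R ≃* GL n S :=
  Units.mapEquiv e.mapMatrix.toMulEquiv

/-- `SL m R ≃* SL n R` from a bijection of index types. -/
def slReindex (e : m ≃ n) :
    Matrix.SpecialLinearGroup m R ≃* Matrix.SpecialLinearGroup n R where
  toFun A := ⟨Matrix.reindex e e A.1, by rw [Matrix.det_reindex_self, A.2]⟩
  invFun A := ⟨Matrix.reindex e.symm e.symm A.1, by rw [Matrix.det_reindex_self, A.2]⟩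
  left_inv A := by ext i j; simp
  right_inv A := by ext i j; simp
  map_mul' A B := by
    apply Subtype.ext
    exact (Matrix.submatrix_mul_equiv A.1 B.1 e.symm e.symm e.symm).symm

/-- `SL n R ≃* SL n S` from a ring isomorphism. -/
def slMapEquiv (e : R ≃+* S) :
    Matrix.SpecialLinearGroup n R ≃* Matrix.SpecialLinearGroup n S :=
  MonoidHom.toMulEquiv (Matrix.SpecialLinearGroup.map e.toRingHom)
    (Matrix.SpecialLinearGroup.map e.symm.toRingHom)
    (by ext A i j; exact e.symm_apply_apply _)
    (by ext A i j; exact e.apply_symm_apply _)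

/-- An isomorphism of special linear groups induces one of the projective groups. -/
noncomputable def pslCongr
    (e : Matrix.SpecialLinearGroup m R ≃* Matrix.SpecialLinearGroup n S) :
    Matrix.ProjectiveSpecialLinearGroup m R ≃* Matrix.ProjectiveSpecialLinearGroup n S :=
  QuotientGroup.congr _ _ e (by
    ext x
    constructor
    · rintro ⟨y, hy, rfl⟩
      rw [Subgroup.mem_center_iff]
      intro g
      obtain ⟨g, rfl⟩ := e.surjective g
      change e g * e y = e y * e g
      rw [← map_mul, ← map_mul, Subgroup.mem_center_iff.1 hy g]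
    · intro hx
      refine ⟨e.symm x, ?_, by simp⟩
      rw [SetLike.mem_coe, Subgroup.mem_center_iff]
      intro g
      apply e.injective
      simpa using Subgroup.mem_center_iff.1 hx (e g))

/-- Two finite fields of the same cardinality have isomorphic `PSL`. -/
noncomputable def pslFieldCongr {F K : Type*} [Field F] [Fintype F] [Field K] [Fintype K]
    (h : Fintype.card F = Fintype.card K) :
    Matrix.ProjectiveSpecialLinearGroup n F ≃* Matrix.ProjectiveSpecialLinearGroup n K :=
  pslCongr (slMapEquiv (FiniteField.ringEquivOfCardEq h))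

/-- `PSL` only depends on the cardinality of the index type. -/
noncomputable def pslReindex (e : m ≃ n) :
    Matrix.ProjectiveSpecialLinearGroup m R ≃* Matrix.ProjectiveSpecialLinearGroup n R :=
  pslCongr (slReindex e)

end Equivs

section Finite

variable {n : Type*} [Fintype n] [DecidableEq n] {F : Type*} [Field F]

/-- The image of `SL` in `GL` is the kernel of the determinant. -/
theorem range_toGL :
    (Matrix.SpecialLinearGroup.toGL : Matrix.SpecialLinearGroup n F →* GL n F).range =
      (Matrix.GeneralLinearGroup.det : GL n F →* Fˣ).ker := by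
  ext g
  constructor
  · rintro ⟨A, rfl⟩
    rw [MonoidHom.mem_ker, Units.ext_iff, Matrix.GeneralLinearGroup.val_det_apply]
    exact A.2
  · intro hg
    rw [MonoidHom.mem_ker, Units.ext_iff, Matrix.GeneralLinearGroup.val_det_apply] at hg
    exact ⟨⟨g.1, hg⟩, Units.ext rfl⟩

/-- `SL ≅ ker det`. -/
noncomputable def slEquivDetKer :
    Matrix.SpecialLinearGroup n F ≃* (Matrix.GeneralLinearGroup.det : GL n F →* Fˣ).ker :=
  (MonoidHom.ofInjective Matrix.SpecialLinearGroup.toGL_injective).trans
    (MulEquiv.subgroupCongr range_toGL)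

variable [Fintype F]

theorem card_units : Nat.card Fˣ = Fintype.card F - 1 := by
  rw [Nat.card_units, Nat.card_eq_fintype_card]

/-- `(q-1) |SL| = |GL|`. -/
theorem card_SL_mul [Nonempty n] :
    (Fintype.card F - 1) * Nat.card (Matrix.SpecialLinearGroup n F) = Nat.card (GL n F) := by
  rw [Nat.card_congr (slEquivDetKer (n := n) (F := F)).toEquiv, ← card_units,
    ← Subgroup.index_mul_card (Matrix.GeneralLinearGroup.det : GL n F →* Fˣ).ker,
    Subgroup.index_ker, MonoidHom.range_eq_top.2 Matrix.GeneralLinearGroup.det_surjective,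
    Subgroup.card_top]

/-- `|GL_n(q)|` for an arbitrary index type. -/
theorem card_GL :
    Nat.card (GL n F) = ∏ i : Fin (Fintype.card n),
      (Fintype.card F ^ Fintype.card n - Fintype.card F ^ (i : ℕ)) := by
  rw [Nat.card_congr (glReindex (R := F) (Fintype.equivFin n)).toEquiv, Matrix.card_GL_field]

/-- `∏_{i<n} (q^n - q^i) = q^(n(n-1)/2) ∏_{i<n} (q^(i+1) - 1)`. -/
theorem prod_pow_sub_pow (q n : ℕ) :
    ∏ i : Fin n, (q ^ n - q ^ (i : ℕ)) =
      q ^ (n * (n - 1) / 2) * ∏ i ∈ Finset.range n, (q ^ (i + 1) - 1) := by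
  have h : ∀ i ∈ Finset.range n, q ^ n - q ^ i = q ^ i * (q ^ (n - i) - 1) := by
    intro i hi
    rw [Finset.mem_range] at hi
    rw [Nat.mul_sub, mul_one, ← pow_add, Nat.add_sub_cancel' hi.le]
  rw [Fin.prod_univ_eq_prod_range (fun i => q ^ n - q ^ i) n, Finset.prod_congr rfl h,
    Finset.prod_mul_distrib, Finset.prod_pow_eq_pow_sum, Finset.sum_range_id]
  congr 1
  rw [← Finset.prod_range_reflect]
  refine Finset.prod_congr rfl fun i hi => ?_
  rw [Finset.mem_range] at hi
  congr 2
  omega

/-- The centre of `SL_n(q)` has order `gcd(n, q-1)`. -/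
theorem card_center_SL [Nonempty n] :
    Nat.card (Subgroup.center (Matrix.SpecialLinearGroup n F)) =
      Nat.gcd (Fintype.card n) (Fintype.card F - 1) := by
  rw [Nat.card_congr
      (Matrix.SpecialLinearGroup.center_equiv_rootsOfUnity' (R := F) (Classical.arbitrary n)).toEquiv,
    rootsOfUnity_eq_ker, IsCyclic.card_powMonoidHom_ker, card_units, Nat.gcd_comm]

/-- The centre of `GL_n(q)` has order `q-1`. -/
theorem card_center_GL [Nonempty n] :
    Nat.card (Subgroup.center (GL n F)) = Fintype.card F - 1 := by
  rw [Matrix.GeneralLinearGroup.center_eq_range_scalar, ← card_units]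
  refine Nat.card_congr (MonoidHom.ofInjective ?_).toEquiv.symm
  intro a b hab
  have := congrArg (fun g : GL n F => (g : Matrix n n F) (Classical.arbitrary n)
    (Classical.arbitrary n)) hab
  exact Units.ext (by simpa using this)

/-- `|PGL_n(q)| = |SL_n(q)|`. -/
theorem card_PGL :
    Nat.card (Matrix.ProjGenLinGroup n F) = Nat.card (Matrix.SpecialLinearGroup n F) := by
  rcases isEmpty_or_nonempty n with hn | hn
  · have : Subsingleton (Matrix.ProjGenLinGroup n F) :=
      Matrix.ProjGenLinGroup.mk_surjective.subsingleton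
    rw [Nat.card_of_subsingleton (1 : Matrix.ProjGenLinGroup n F),
      Nat.card_of_subsingleton (1 : Matrix.SpecialLinearGroup n F)]
  · have h := (Subgroup.center (GL n F)).card_eq_card_quotient_mul_card_subgroup
    rw [card_center_GL, ← card_SL_mul, mul_comm] at h
    have hq : 0 < Fintype.card F - 1 := by
      have := Fintype.one_lt_card (α := F)
      omega
    exact (Nat.eq_of_mul_eq_mul_right hq h).symm

/-- `gcd(n, q-1) |PSL_n(q)| = |SL_n(q)|`. -/
theorem card_PSL_mul [Nonempty n] :
    Nat.gcd (Fintype.card n) (Fintype.card F - 1) *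
        Nat.card (Matrix.ProjectiveSpecialLinearGroup n F) =
      Nat.card (Matrix.SpecialLinearGroup n F) := by
  rw [(Subgroup.center (Matrix.SpecialLinearGroup n F)).card_eq_card_quotient_mul_card_subgroup,
    card_center_SL, mul_comm]

theorem card_GL_two :
    Nat.card (GL (Fin 2) F) = Fintype.card F * (Fintype.card F - 1) *
      (Fintype.card F ^ 2 - 1) := by
  rw [Matrix.card_GL_field, prod_pow_sub_pow]
  simp [Finset.prod_range_succ, mul_assoc]

/-- `|SL_2(q)| = q (q^2 - 1)`. -/
theorem card_SL_two :
    Nat.card (Matrix.SpecialLinearGroup (Fin 2) F) =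
      Fintype.card F * (Fintype.card F ^ 2 - 1) := by
  have h := card_SL_mul (n := Fin 2) (F := F)
  have hq : 0 < Fintype.card F - 1 := by
    have := Fintype.one_lt_card (α := F)
    omega
  rw [card_GL_two, mul_comm (Fintype.card F) (Fintype.card F - 1), mul_assoc] at h
  exact Nat.eq_of_mul_eq_mul_left hq h

/-- `gcd(2, q-1) |PSL_2(q)| = q (q^2 - 1)`. -/
theorem card_PSL_two_mul :
    Nat.gcd 2 (Fintype.card F - 1) * Nat.card (Matrix.ProjectiveSpecialLinearGroup (Fin 2) F) =
      Fintype.card F * (Fintype.card F ^ 2 - 1) := by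
  simpa [card_SL_two] using card_PSL_mul (n := Fin 2) (F := F)

theorem card_PSL_two_odd (h : Odd (Fintype.card F)) :
    2 * Nat.card (Matrix.ProjectiveSpecialLinearGroup (Fin 2) F) =
      Fintype.card F * (Fintype.card F ^ 2 - 1) := by
  have hg : Nat.gcd 2 (Fintype.card F - 1) = 2 := by
    apply Nat.gcd_eq_left
    obtain ⟨k, hk⟩ := h
    omega
  simpa [hg] using card_PSL_two_mul (F := F)

theorem card_PSL_two_even (h : Even (Fintype.card F)) :
    Nat.card (Matrix.ProjectiveSpecialLinearGroup (Fin 2) F) =
      Fintype.card F * (Fintype.card F ^ 2 - 1) := by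
  have hg : Nat.gcd 2 (Fintype.card F - 1) = 1 := by
    have hc : Nat.Coprime 2 (Fintype.card F - 1) := by
      rw [Nat.prime_two.coprime_iff_not_dvd]
      obtain ⟨k, hk⟩ := h
      have := Fintype.one_lt_card (α := F)
      omega
    exact hc
  simpa [hg] using card_PSL_two_mul (F := F)

end Finite

end CfsgLib.Linear
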