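import Mathlib

/-!
# Isomorphisms from a kernel-checkable multiplication certificate

Given faithful representations of two finite groups in monoids with decidable equality and a list
describing the subgroup of the product generated by chosen pairs, a boolean check yields a
surjective homomorphism between the groups.
-/

set_option autoImplicit false

namespace CfsgLib.Linear

variable {M N T : Type*}

/-- The data of a certificate. `L` lists the generated subgroup of pairs through `dec`; `nxt` gives,
for each generator, the position of each product; `par` gives a predecessor of each later element;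
`sG`, `sH` pick elements whose keys increase in the two coordinates. -/
structure IsoCert (M N T : Type*) where
  /-- The elements. -/
  L : List T
  /-- The default element. -/
  dflt : T
  /-- Decoding. -/
  dec : T → M × N
  /-- Successor tables, one per generator. -/
  nxt : List (List ℕ)
  /-- Predecessors: position and generator index. -/
  par : List (ℕ × ℕ)
  /-- A key on the first coordinate. -/
  keyM : M → ℕ
  /-- A key on the second coordinate. -/
  keyN : N → ℕ
  /-- Positions with increasing first key. -/
  sG : List ℕ
  /-- Positions with increasing second key. -/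
  sH : List ℕ

/-- The element of the certificate at a position. -/
def IsoCert.el (c : IsoCert M N T) (i : ℕ) : M × N := c.dec (c.L.getD i c.dflt)

/-- The check. -/
def IsoCert.check [Monoid M] [Monoid N] [DecidableEq M] [DecidableEq N] (c : IsoCert M N T)
    (gens : List (M × N)) (nG nH : ℕ) : Bool :=
  decide (c.L.length = nG) && decide (c.el 0 = 1) &&
  decide (c.nxt.length = gens.length) &&
  (List.zip gens c.nxt).all (fun gn => decide (gn.2.length = c.L.length) &&
    gn.2.all (fun j => decide (j < c.L.length)) &&
    (List.zip c.L gn.2).all (fun tj => decide (c.dec tj.1 * gn.1 = c.el tj.2))) &&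
  decide (c.par.length + 1 = c.L.length) &&
  c.par.zipIdx.all (fun pi => decide (pi.1.1 ≤ pi.2) && decide (pi.1.2 < gens.length) &&
    decide (c.el pi.1.1 * gens.getD pi.1.2 1 = c.el (pi.2 + 1))) &&
  c.sG.all (fun j => decide (j < c.L.length)) &&
  decide (c.sG.length = nG) &&
  decide ((c.sG.map fun j => c.keyM (c.el j).1).IsChain (· < ·)) &&
  c.sH.all (fun j => decide (j < c.L.length)) &&
  decide (c.sH.length = nH) &&
  decide ((c.sH.map fun j => c.keyN (c.el j).2).IsChain (· < ·))

theorem surjective_of_keys {X G : Type*} [Finite G] (φ : X → G) (key : G → ℕ) (l : List X)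
    (hl : (l.map fun x => key (φ x)).IsChain (· < ·)) (hcard : l.length = Nat.card G) :
    Function.Surjective φ := by
  classical
  have := Fintype.ofFinite G
  intro g
  have hnd : (l.map φ).Nodup := by
    apply List.Nodup.of_map key
    rw [List.map_map]
    exact (List.isChain_iff_pairwise.1 hl).imp fun h => h.ne
  have hmem : g ∈ (l.map φ).toFinset := by
    rw [Finset.eq_univ_of_card _ (show (l.map φ).toFinset.card = Fintype.card G by
      rw [List.toFinset_card_of_nodup hnd, List.length_map, hcard, Nat.card_eq_fintype_card])]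
    exact Finset.mem_univ g
  rw [List.mem_toFinset, List.mem_map] at hmem
  exact ⟨hmem.choose, hmem.choose_spec.2⟩

theorem exists_surjective_of_check {G H : Type*} [Group G] [Group H] [Finite G] [Finite H]
    [Monoid M] [Monoid N] [DecidableEq M] [DecidableEq N]
    (rG : G →* M) (hG : Function.Injective rG) (rH : H →* N) (hH : Function.Injective rH)
    (gens : List (G × H)) (c : IsoCert M N T) {nG nH : ℕ}
    (hnG : Nat.card G = nG) (hnH : Nat.card H = nH)
    (h : c.check (gens.map fun g => (rG g.1, rH g.2)) nG nH = true) :
    ∃ θ : G →* H, Function.Surjective θ := by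
  simp only [IsoCert.check, Bool.and_eq_true, decide_eq_true_eq, List.all_eq_true] at h
  obtain ⟨⟨⟨⟨⟨⟨⟨⟨⟨⟨⟨hlen, h0⟩, hnlen⟩, hnxt⟩, hplen⟩, hpar⟩, hsG⟩, hsGlen⟩, hkG⟩, hsH⟩, hsHlen⟩,
    hkH⟩ := h
  rw [List.length_map] at hnlen
  set r : G × H →* M × N := rG.prodMap rH with hr
  have hrinj : Function.Injective r := Prod.map_injective.2 ⟨hG, hH⟩
  set D := Subgroup.closure {x | x ∈ gens} with hD
  have hstep : ∀ g ∈ gens, ∀ i < c.L.length, ∃ j < c.L.length, c.el i * r g = c.el j := by
    intro g hg i hi
    obtain ⟨k, hk, rfl⟩ := List.mem_iff_getElem.1 hg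
    have hk' : k < c.nxt.length := hnlen ▸ hk
    have hk2 : k < (List.zip (gens.map fun g => (rG g.1, rH g.2)) c.nxt).length := by
      simp [hk, hk']
    have hm := hnxt _ (List.getElem_mem hk2)
    simp only [List.getElem_zip, List.getElem_map] at hm
    obtain ⟨⟨hl, hb⟩, hz⟩ := hm
    have hi' : i < (List.zip c.L c.nxt[k]).length := by simp [hl, hi]
    have hzi := hz _ (List.getElem_mem hi')
    simp only [List.getElem_zip] at hzi
    refine ⟨c.nxt[k][i]'(hl ▸ hi), hb _ (List.getElem_mem _), ?_⟩
    have e : c.el i = c.dec c.L[i] := by simp [IsoCert.el, List.getElem?_eq_getElem hi]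
    rw [e]
    exact hzi
  have hLpos : 0 < c.L.length := by omega
  have hDsub : ∀ x ∈ D, ∃ i < c.L.length, r x = c.el i := by
    intro x hx
    have hx' : x ∈ Submonoid.closure {x : G × H | x ∈ gens} := by
      rwa [← Subgroup.closure_toSubmonoid_of_finite]
    induction hx' using Submonoid.closure_induction_right with
    | one => exact ⟨0, hLpos, by rw [h0, map_one]⟩
    | mul_right a ha g hg ih =>
      obtain ⟨i, hi, hai⟩ := ih (by
        rw [hD, ← Subgroup.mem_toSubmonoid, Subgroup.closure_toSubmonoid_of_finite]; exact ha)
      obtain ⟨j, hj, hij⟩ := hstep g hg i hi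
      exact ⟨j, hj, by rw [map_mul, hai, hij]⟩
  have hLsub : ∀ i, i < c.L.length → ∃ x ∈ D, r x = c.el i := by
    intro i
    induction i using Nat.strong_induction_on with
    | _ i ih =>
      intro hi
      rcases i with - | i
      · exact ⟨1, D.one_mem, by rw [h0, map_one]⟩
      · have hip : i < c.par.length := by omega
        obtain ⟨⟨hle, hlt⟩, he⟩ := hpar (c.par[i], i)
          (List.mem_zipIdx_iff_getElem?.2 (List.getElem?_eq_getElem hip))
        rw [List.length_map] at hlt
        obtain ⟨x, hx, hrx⟩ := ih c.par[i].1 (Nat.lt_succ_of_le hle) (by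
          simp only [] at hle
          omega)
        refine ⟨x * gens[c.par[i].2], D.mul_mem hx
          (Subgroup.subset_closure (List.getElem_mem hlt)), ?_⟩
        rw [map_mul, hrx, ← he]
        congr 1
        simp [hr, List.getElem?_eq_getElem hlt, Prod.map]
  have hcardD : Nat.card D ≤ c.L.length := by
    choose f hf hfe using hDsub
    refine le_trans (Nat.card_le_card_of_injective
      (fun x : D => (⟨f x.1 x.2, hf x.1 x.2⟩ : Fin c.L.length)) ?_) (by simp)
    intro x y hxy
    apply Subtype.ext
    apply hrinj
    rw [hfe x.1 x.2, hfe y.1 y.2]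
    simp only [Fin.mk.injEq] at hxy
    rw [hxy]
  choose g hgD hgr using hLsub
  have hbG : Function.Bijective ((MonoidHom.fst G H).comp D.subtype) := by
    have hs : Function.Surjective ((MonoidHom.fst G H).comp D.subtype) := by
      refine surjective_of_keys _ (fun a => c.keyM (rG a))
        (c.sG.attach.map fun j => (⟨g j.1 (hsG _ j.2), hgD _ _⟩ : D)) ?_ (by simp [hsGlen, hnG])
      convert hkG using 1
      rw [List.map_map, ← List.attach_map_val (l := c.sG) (f := fun j => c.keyM (c.el j).1)]
      refine List.map_congr_left fun j _ => ?_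
      have := congrArg Prod.fst (hgr j.1 (hsG _ j.2))
      simp only [Function.comp_apply, MonoidHom.coe_comp, Subgroup.coe_subtype,
        MonoidHom.coe_fst]
      rw [← this, hr]
      rfl
    refine (Nat.bijective_iff_surjective_and_card _).2 ⟨hs, le_antisymm ?_ ?_⟩
    · exact hcardD.trans (by rw [hlen, hnG])
    · exact Nat.card_le_card_of_surjective _ hs
  have hsH' : Function.Surjective ((MonoidHom.snd G H).comp D.subtype) := by
    refine surjective_of_keys _ (fun a => c.keyN (rH a))
      (c.sH.attach.map fun j => (⟨g j.1 (hsH _ j.2), hgD _ _⟩ : D)) ?_ (by simp [hsHlen, hnH])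
    convert hkH using 1
    rw [List.map_map, ← List.attach_map_val (l := c.sH) (f := fun j => c.keyN (c.el j).2)]
    refine List.map_congr_left fun j _ => ?_
    have := congrArg Prod.snd (hgr j.1 (hsH _ j.2))
    simp only [Function.comp_apply, MonoidHom.coe_comp, Subgroup.coe_subtype,
      MonoidHom.coe_snd]
    rw [← this, hr]
    rfl
  exact ⟨((MonoidHom.snd G H).comp D.subtype).comp (MulEquiv.ofBijective _ hbG).symm.toMonoidHom,
    hsH'.comp (MulEquiv.ofBijective _ hbG).symm.surjective⟩

/-- A surjection whose kernel has order at most two has central kernel. -/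
theorem ker_le_center_of_card_le_two {G H : Type*} [Group G] [Group H] [Finite G] (θ : G →* H)
    (h : Nat.card θ.ker ≤ 2) : θ.ker ≤ Subgroup.center G := by
  classical
  have := Fintype.ofFinite θ.ker
  intro x hx
  by_cases hx1 : x = 1
  · exact hx1 ▸ (Subgroup.center G).one_mem
  rw [Subgroup.mem_center_iff]
  intro g
  have hy : g * x * g⁻¹ ∈ θ.ker := θ.normal_ker.conj_mem x hx g
  suffices g * x * g⁻¹ = x from mul_inv_eq_iff_eq_mul.1 this
  by_contra hne
  have : 3 ≤ Nat.card θ.ker := by
    rw [Nat.card_eq_fintype_card, ← Finset.card_univ]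
    refine le_trans (le_of_eq ?_) (Finset.card_le_card (Finset.subset_univ
      ({⟨1, θ.ker.one_mem⟩, ⟨x, hx⟩, ⟨g * x * g⁻¹, hy⟩} : Finset θ.ker)))
    rw [Finset.card_insert_of_notMem, Finset.card_pair]
    · simpa [eq_comm] using hne
    · simp only [Finset.mem_insert, Finset.mem_singleton, Subtype.mk.injEq, not_or]
      exact ⟨Ne.symm hx1, fun e => hx1 (conj_eq_one_iff.1 e.symm)⟩
  omega

/-- A surjection `G → H` with `|G| = |Z(G)| |H|` and `|Z(G)| ≤ 2` gives `G/Z(G) ≅ H`. -/
theorem nonempty_quotient_center_equiv {G H : Type*} [Group G] [Group H] [Finite G] (θ : G →* H)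
    (hθ : Function.Surjective θ)
    (hcard : Nat.card G = Nat.card (Subgroup.center G) * Nat.card H)
    (hz : Nat.card (Subgroup.center G) ≤ 2) :
    Nonempty (G ⧸ Subgroup.center G ≃* H) := by
  have hker : Nat.card θ.ker = Nat.card (Subgroup.center G) := by
    have h := Subgroup.card_mul_index θ.ker
    rw [Subgroup.index_ker, MonoidHom.range_eq_top.2 hθ, Subgroup.card_top, hcard] at h
    have : Finite H := Finite.of_surjective θ hθ
    exact Nat.eq_of_mul_eq_mul_right Nat.card_pos h
  have he : Subgroup.center G = θ.ker :=
    (Subgroup.eq_of_le_of_card_ge (ker_le_center_of_card_le_two θ (hker ▸ hz)) hker.ge).symm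
  exact ⟨(QuotientGroup.quotientMulEquivOfEq he).trans
    (QuotientGroup.quotientKerEquivOfSurjective θ hθ)⟩

end CfsgLib.Linear
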