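import Cfsg.Agent.Linear.Basic
import Cfsg.Agent.Linear.CertIso

/-!
# Codings for certificates of small exceptional isomorphisms
-/

set_option autoImplicit false

namespace CfsgLib.Linear

/-- Matrix from the digits of a number to base `q`, entry `(i,j)` at digit `n*i+j`. -/
def decMat {K : Type*} (n q : ℕ) (kOf : ℕ → K) (t : ℕ) : Matrix (Fin n) (Fin n) K :=
  fun i j => kOf (t / q ^ (n * i.1 + j.1) % q)

/-- Self-map of `Fin (n+1)` from the digits of a number. -/
def decFun (n : ℕ) (t : ℕ) : Function.End (Fin (n + 1)) :=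
  fun i => ⟨t / (n + 1) ^ i.1 % (n + 1), Nat.mod_lt _ (Nat.succ_pos n)⟩

/-- A key on matrices. -/
def keyMat {K : Type*} (n q : ℕ) (kIx : K → ℕ) (A : Matrix (Fin n) (Fin n) K) : ℕ :=
  (List.finRange n).foldr
    (fun i acc => (List.finRange n).foldr (fun j b => kIx (A i j) + q * b) acc) 0

/-- A key on self-maps. -/
def keyFun (n : ℕ) (f : Function.End (Fin n)) : ℕ :=
  (List.finRange n).foldr (fun i acc => (f i).1 + n * acc) 0

instance decidableEqEndFin (n : ℕ) : DecidableEq (Function.End (Fin n)) :=
  inferInstanceAs (DecidableEq (Fin n → Fin n))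

/-- The defining representation of an alternating group by self-maps. -/
def altRep (n : ℕ) : alternatingGroup (Fin n) →* Function.End (Fin n) where
  toFun g := ⇑(g : Equiv.Perm (Fin n))
  map_one' := rfl
  map_mul' _ _ := rfl

theorem altRep_injective (n : ℕ) : Function.Injective (altRep n) :=
  fun _ _ h => Subtype.ext (Equiv.coe_fn_injective h)

/-- The defining representation of a symmetric group by self-maps. -/
def permRep (n : ℕ) : Equiv.Perm (Fin n) →* Function.End (Fin n) where
  toFun g := ⇑g
  map_one' := rfl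
  map_mul' _ _ := rfl

theorem permRep_injective (n : ℕ) : Function.Injective (permRep n) :=
  fun _ _ h => Equiv.coe_fn_injective h

/-- The defining representation of a special linear group. -/
abbrev slRep (n : ℕ) (K : Type*) [CommRing K] :
    Matrix.SpecialLinearGroup (Fin n) K →* Matrix (Fin n) (Fin n) K :=
  Matrix.SpecialLinearGroup.coeMonoidHom

theorem card_alternatingGroup' {n m : ℕ} [Nontrivial (Fin n)] (h : n.factorial = 2 * m) :
    Nat.card (alternatingGroup (Fin n)) = m := by
  rw [nat_card_alternatingGroup, Nat.card_fin, h, Nat.mul_div_cancel_left _ two_pos]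

theorem psl_equiv_of_check {F K : Type*} [Field F] [Fintype F] [Field K] [Fintype K]
    [DecidableEq K] (hq : Fintype.card F = Fintype.card K) {n : ℕ} [NeZero n]
    {H : Type*} [Group H] [Finite H] {N T : Type*} [Monoid N] [DecidableEq N]
    (rH : H →* N) (hH : Function.Injective rH)
    (gens : List (Matrix.SpecialLinearGroup (Fin n) K × H))
    (c : IsoCert (Matrix (Fin n) (Fin n) K) N T) {nG nH z : ℕ}
    (hgl : Nat.card (GL (Fin n) K) = (Fintype.card K - 1) * nG)
    (hzdef : Nat.gcd n (Fintype.card K - 1) = z) (hz : z ≤ 2) (hnz : nG = z * nH)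
    (hnH : Nat.card H = nH)
    (h : c.check (gens.map fun g => (slRep n K g.1, rH g.2)) nG nH = true) :
    Nonempty (Matrix.ProjectiveSpecialLinearGroup (Fin n) F ≃* H) := by
  have hnG : Nat.card (Matrix.SpecialLinearGroup (Fin n) K) = nG := by
    have := card_SL_mul (n := Fin n) (F := K)
    rw [hgl] at this
    exact Nat.eq_of_mul_eq_mul_left (by have := Fintype.one_lt_card (α := K); omega) this
  have hc : Nat.card (Subgroup.center (Matrix.SpecialLinearGroup (Fin n) K)) = z := by
    rw [card_center_SL, Fintype.card_fin, hzdef]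
  obtain ⟨θ, hθ⟩ := exists_surjective_of_check (slRep n K)
    Matrix.SpecialLinearGroup.coeMonoidHom_injective rH hH gens c hnG hnH h
  obtain ⟨e⟩ := nonempty_quotient_center_equiv θ hθ (by rw [hnG, hc, hnH, hnz]) (hc ▸ hz)
  exact ⟨(pslFieldCongr hq).trans e⟩

end CfsgLib.Linear
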