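import Cfsg.Agent.Linear.Basic

/-!
# Generation by transvections, perfectness of `SL`, simplicity of `PSL`, `GL' = SL`
-/

set_option autoImplicit false

namespace CfsgLib.Linear

open Matrix Matrix.SpecialLinearGroup
open scoped MatrixGroups commutatorElement LinearAlgebra.Projectivization

variable {ι : Type*} [Fintype ι] [DecidableEq ι]

theorem transvection_smul_apply {R : Type*} [CommRing R] {i j : ι} (hij : i ≠ j) (b : R)
    (w : ι → R) (k : ι) :
    (Matrix.SpecialLinearGroup.transvection hij b).1.mulVec w k =
      w k + if k = i then b * w j else 0 := by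
  rw [transvection_coe, Matrix.add_mulVec, Matrix.one_mulVec, Pi.add_apply,
    Matrix.single_mulVec_eq, Pi.smul_apply, Pi.single_apply]
  split_ifs <;> simp

theorem sl_ext_mulVec {R : Type*} [CommRing R] {A B : Matrix.SpecialLinearGroup ι R}
    (h : ∀ w k, A.1.mulVec w k = B.1.mulVec w k) : A = B :=
  Subtype.ext (Matrix.ext_iff_mulVec.2 fun w => funext (h w))

variable {F : Type*} [Field F]

/-- The diagonal element `diag2n` is a product of six transvections. -/
theorem diag2n_eq_transvections {i j : ι} (hij : i ≠ j) (a : F) (ha : a ≠ 0) :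
    diag2n hij a ha = Matrix.SpecialLinearGroup.transvection hij a *
      Matrix.SpecialLinearGroup.transvection hij.symm (-a⁻¹) *
      Matrix.SpecialLinearGroup.transvection hij a *
      Matrix.SpecialLinearGroup.transvection hij (-1) *
      Matrix.SpecialLinearGroup.transvection hij.symm 1 *
      Matrix.SpecialLinearGroup.transvection hij (-1) := by
  apply sl_ext_mulVec
  intro w k
  simp only [Matrix.SpecialLinearGroup.coe_mul, ← Matrix.mulVec_mulVec, transvection_smul_apply,
    diag2n_coe, Matrix.mulVec_diagonal, ↓reduceIte, if_neg hij, if_neg hij.symm]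
  by_cases hki : k = i
  · subst hki
    simp only [↓reduceIte, if_neg hij]
    field_simp
    ring
  · by_cases hkj : k = j
    · subst hkj
      simp only [↓reduceIte, if_neg hki]
      field_simp
      ring
    · simp only [if_neg hki, if_neg hkj]
      ring

/-- Induction on `SL` over a field along products of transvections. -/
theorem sl_induction (P : Matrix.SpecialLinearGroup ι F → Prop) (hone : P 1)
    (htransvec : ∀ (i j : ι) (h : i ≠ j) c, P (Matrix.SpecialLinearGroup.transvection h c))
    (hmul : ∀ A B, P A → P B → P (A * B)) (A : Matrix.SpecialLinearGroup ι F) : P A := by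
  rcases subsingleton_or_nontrivial ι with hι | hι
  · rwa [Subsingleton.elim A 1]
  · refine diagonal_transvection_induction' P A (fun i j hij c hc => ?_) htransvec hmul
    rw [diag2n_eq_transvections hij c hc]
    refine hmul _ _ (hmul _ _ (hmul _ _ (hmul _ _ (hmul _ _ ?_ ?_) ?_) ?_) ?_) ?_
    all_goals exact htransvec _ _ _ _

/-- A subgroup of `SL` containing all transvections is everything. -/
theorem sl_eq_top_of_transvections {H : Subgroup (Matrix.SpecialLinearGroup ι F)}
    (h : ∀ (i j : ι) (hij : i ≠ j) c, Matrix.SpecialLinearGroup.transvection hij c ∈ H) :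
    H = ⊤ :=
  eq_top_iff.2 fun A _ => sl_induction (· ∈ H) H.one_mem h (fun _ _ => H.mul_mem) A

theorem commutator_transvection {R : Type*} [CommRing R] {i j k : ι} (hij : i ≠ j) (hik : i ≠ k)
    (hkj : k ≠ j) (a b : R) :
    ⁅(Matrix.SpecialLinearGroup.transvection hik a : Matrix.SpecialLinearGroup ι R),
        Matrix.SpecialLinearGroup.transvection hkj b⁆ =
      Matrix.SpecialLinearGroup.transvection hij (a * b) := by
  rw [commutatorElement_def, transvection_inv, transvection_inv]
  apply sl_ext_mulVec
  intro w l
  simp only [Matrix.SpecialLinearGroup.coe_mul, ← Matrix.mulVec_mulVec, transvection_smul_apply,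
    ↓reduceIte, if_neg hij.symm, if_neg hik.symm, if_neg hkj,
    if_neg hkj.symm]
  by_cases hli : l = i
  · subst hli
    simp only [↓reduceIte, if_neg hik]
    ring
  · simp only [if_neg hli]
    by_cases hlk : l = k
    · subst hlk
      simp only [↓reduceIte]
      ring
    · simp only [if_neg hlk]
      ring

/-- `SL_n(F)` is perfect for `n ≥ 3`. -/
theorem commutator_SL_eq_top (h : 3 ≤ Fintype.card ι) :
    commutator (Matrix.SpecialLinearGroup ι F) = ⊤ := by
  refine sl_eq_top_of_transvections fun i j hij c => ?_
  obtain ⟨k, hk⟩ : ∃ k, k ∉ ({i, j} : Finset ι) := by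
    by_contra hcon
    push Not at hcon
    have h1 : Finset.univ ⊆ ({i, j} : Finset ι) := fun k _ => hcon k
    have h2 := (Finset.card_le_card h1).trans Finset.card_le_two
    rw [Finset.card_univ] at h2
    omega
  simp only [Finset.mem_insert, Finset.mem_singleton, not_or] at hk
  have := commutator_transvection hij (Ne.symm hk.1) hk.2 c 1
  rw [mul_one] at this
  rw [← this]
  exact Subgroup.commutator_mem_commutator (Subgroup.mem_top _) (Subgroup.mem_top _)

/-- `PSL_n(F)` is perfect for `n ≥ 3`. -/
theorem commutator_PSL_eq_top (h : 3 ≤ Fintype.card ι) :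
    commutator (Matrix.ProjectiveSpecialLinearGroup ι F) = ⊤ := by
  have hp : Group.IsPerfect (Matrix.SpecialLinearGroup ι F) := ⟨commutator_SL_eq_top h⟩
  exact (Group.IsPerfect.instQuotientSubgroup
    (H := Subgroup.center (Matrix.SpecialLinearGroup ι F))).commutator_eq_top

/-- The unipotent radicals of the point stabilisers generate `PSL`. -/
theorem iSup_iwasawaT : iSup (PSL.iwasawaT (F := F) (ι := ι)) = ⊤ := by
  have hmap : iSup (PSL.iwasawaT (F := F) (ι := ι)) =
      Subgroup.map (QuotientGroup.mk' (Subgroup.center (Matrix.SpecialLinearGroup ι F)))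
        (⨆ p : ℙ F (ι → F), lineStab p.submodule) := by
    rw [Subgroup.map_iSup]
  rw [hmap, sl_eq_top_of_transvections (H := ⨆ p : ℙ F (ι → F), lineStab p.submodule) ?_,
    Subgroup.map_top_of_surjective _ (QuotientGroup.mk'_surjective _)]
  intro i j hij c
  refine Subgroup.mem_iSup_of_mem (Projectivization.mk F (Pi.single i (1 : F) : ι → F)
    (Pi.single_ne_zero_iff.2 one_ne_zero)) ?_
  rw [Projectivization.submodule_mk]
  exact SL2Gen.transvection_mem_lineStab hij c

/-- The Iwasawa structure of `PSL` on the projective space. -/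
noncomputable def pslIwasawa :
    MulAction.IwasawaStructure (Matrix.ProjectiveSpecialLinearGroup ι F) (ℙ F (ι → F)) where
  T := PSL.iwasawaT
  is_comm p := by
    have hSL : IsMulCommutative (lineStab (F := F) (ι := ι) p.submodule) := by
      rw [← Projectivization.mk_rep p, Projectivization.submodule_mk]
      exact lineStab_isMulCommutative_of_span p.rep p.rep_nonzero
    exact Subgroup.map_isMulCommutative _ _
  is_conj g p := by
    obtain ⟨g_SL, rfl⟩ := QuotientGroup.mk_surjective g
    rw [Matrix.ProjectiveSpecialLinearGroup.smul_proj_mk]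
    change Subgroup.map _ _ = _
    rw [PSL.smul_submodule, Matrix.SpecialLinearGroup.lineStab_smul, PSL.iwasawaT_map_conj]
  is_generator := iSup_iwasawaT

/-- `PSL_n(F)` is simple for `n ≥ 3`. -/
theorem isSimpleGroup_PSL (h : 3 ≤ Fintype.card ι) :
    IsSimpleGroup (Matrix.ProjectiveSpecialLinearGroup ι F) := by
  have : Nontrivial ι := Fintype.one_lt_card_iff_nontrivial.1 (by omega)
  have : Nontrivial (Matrix.ProjectiveSpecialLinearGroup ι F) := SL2Simple.PSL_nontrivial
  exact MulAction.IwasawaStructure.isSimpleGroup (commutator_PSL_eq_top h) pslIwasawa inferInstance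

/-- `PSL_n(F)` is simple unless `n = 2` and `q ≤ 3`. -/
theorem isSimpleGroup_PSL_of [Fintype F] (n : ℕ) (hn : 2 ≤ n) (h : n = 2 → 4 ≤ Fintype.card F) :
    IsSimpleGroup (Matrix.ProjectiveSpecialLinearGroup (Fin n) F) := by
  rcases eq_or_lt_of_le hn with rfl | hn
  · exact Matrix.ProjectiveSpecialLinearGroup.rank_two_simple
      (by rw [Nat.card_eq_fintype_card]; exact h rfl)
  · exact isSimpleGroup_PSL (by rw [Fintype.card_fin]; omega)

/-- `GL' = SL`, away from `GL_2(2)`. -/
theorem commutator_GL (h : Fintype.card ι = 2 → ∃ a : F, a ≠ 0 ∧ a ≠ 1) :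
    commutator (GL ι F) = (Matrix.GeneralLinearGroup.det : GL ι F →* Fˣ).ker := by
  refine le_antisymm (Abelianization.commutator_subset_ker _) ?_
  rw [← range_toGL, MonoidHom.range_eq_map]
  rw [Subgroup.map_le_iff_le_comap, top_le_iff]
  by_cases h3 : 3 ≤ Fintype.card ι
  · rw [eq_top_iff, ← commutator_SL_eq_top (F := F) h3, ← Subgroup.map_le_iff_le_comap,
      commutator_def, commutator_def, Subgroup.map_commutator]
    exact Subgroup.commutator_mono le_top le_top
  refine sl_eq_top_of_transvections fun i j hij c => ?_
  have hc : Fintype.card ι = 2 := by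
    have := Fintype.one_lt_card_iff.2 ⟨i, j, hij⟩
    omega
  obtain ⟨a, ha0, ha1⟩ := h hc
  rw [Subgroup.mem_comap]
  have hd : IsUnit (Matrix.diagonal fun k => if k = i then a else (1 : F)) := by
    rw [Matrix.isUnit_iff_isUnit_det, Matrix.det_diagonal, isUnit_iff_ne_zero,
      Finset.prod_ne_zero_iff]
    intro k _
    split_ifs <;> simp [ha0]
  have key : ⁅hd.unit, Matrix.SpecialLinearGroup.toGL
      (Matrix.SpecialLinearGroup.transvection hij (c / (a - 1)))⁆ =
      Matrix.SpecialLinearGroup.toGL (Matrix.SpecialLinearGroup.transvection hij c) := by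
    rw [commutatorElement_def, mul_inv_eq_iff_eq_mul, mul_inv_eq_iff_eq_mul]
    apply Units.ext
    apply Matrix.ext_iff_mulVec.2
    intro w
    funext k
    simp only [Units.val_mul, IsUnit.unit_spec, Matrix.SpecialLinearGroup.coe_GL_coe_matrix,
      ← Matrix.mulVec_mulVec, Matrix.mulVec_diagonal, transvection_smul_apply]
    have ha : a - 1 ≠ 0 := sub_ne_zero.2 ha1
    by_cases hk : k = i
    · subst hk
      simp only [↓reduceIte, if_neg hij.symm]
      field_simp
      ring
    · simp [if_neg hk, hij.symm]
  rw [← key]
  exact Subgroup.commutator_mem_commutator (Subgroup.mem_top _) (Subgroup.mem_top _)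

end CfsgLib.Linear
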