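import Cfsg.Agent.Linear.SmallFields
import Cfsg.Agent.Linear.SmallIsoTools

/-!
# Certificates: PSL(2,q) for q = 2, 3, 4, 5
-/

set_option autoImplicit false
set_option maxRecDepth 10000

namespace CfsgLib.Linear

/-- Certificate data for `psl22`. -/
def psl22Cert : IsoCert (Matrix (Fin 2) (Fin 2) (ZMod 2)) (Function.End (Fin 3)) ℕ where
  L := [
    264, 385, 312, 200, 181, 356]
  dflt := 0
  dec t := (decMat 2 2 (fun d : ℕ => (d : ZMod 2)) (t / 27), decFun 2 (t % 27))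
  nxt := [[
    1, 3, 5, 0, 2, 4], [
    2, 4, 0, 5, 1, 3]]
  par := [
    (0, 0), (0, 1), (1, 0), (1, 1), (2, 0)]
  keyM := keyMat 2 2 (fun x => x.val)
  keyN := keyFun 3
  sG := [
    4, 3, 0, 2, 5, 1]
  sH := [
    5, 1, 3, 2, 4, 0]

/-- Generators for `psl22`. -/
def psl22Gens : List (Matrix.SpecialLinearGroup (Fin 2) (ZMod 2) × Equiv.Perm (Fin 3)) :=
  [(⟨!![(fun d : ℕ => (d : ZMod 2)) 0, (fun d : ℕ => (d : ZMod 2)) 1; (fun d : ℕ => (d : ZMod 2)) 1, (fun d : ℕ => (d : ZMod 2)) 1], by decide +kernel⟩, Equiv.swap 0 1 * Equiv.swap 1 2),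
   (⟨!![(fun d : ℕ => (d : ZMod 2)) 1, (fun d : ℕ => (d : ZMod 2)) 1; (fun d : ℕ => (d : ZMod 2)) 0, (fun d : ℕ => (d : ZMod 2)) 1], by decide +kernel⟩, Equiv.swap 1 2)]

theorem psl22_check : psl22Cert.check
    (psl22Gens.map fun g => (slRep 2 (ZMod 2) g.1, (permRep 3) g.2)) 6 6 = true := by
  decide +kernel

/-- Certificate data for `psl23`. -/
def psl23Cert : IsoCert (Matrix (Fin 2) (Fin 2) (ZMod 3)) (Function.End (Fin 4)) ℕ where
  L := [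
    7396, 19320, 11821, 4508, 15158, 12489, 9571, 3867, 10574, 17329, 13745, 5403,
    8071, 4306, 6098, 16685, 10872, 16007, 19043, 8758, 5788, 17865, 14564, 20302]
  dflt := 0
  dec t := (decMat 2 3 (fun d : ℕ => (d : ZMod 3)) (t / 256), decFun 3 (t % 256))
  nxt := [[
    1, 3, 5, 0, 8, 10, 11, 12, 14, 15, 2, 17, 18, 19, 4, 21, 20, 6, 7, 23, 22, 9, 16, 13], [
    2, 4, 6, 7, 9, 8, 0, 13, 12, 1, 16, 14, 5, 3, 20, 18, 19, 21, 22, 10, 11, 23, 15, 17]]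
  par := [
    (0, 0), (0, 1), (1, 0), (1, 1), (2, 0), (2, 1), (3, 1), (4, 0), (4, 1), (5, 0), (6, 0), (7, 0),
    (7, 1), (8, 0), (9, 0), (10, 1), (11, 0), (12, 0), (13, 0), (14, 1), (15, 0), (18, 1), (19, 0)]
  keyM := keyMat 2 3 (fun x => x.val)
  keyN := keyFun 4
  sG := [
    7, 13, 3, 11, 20, 14, 0, 12, 19, 6, 8, 16, 2, 5, 10, 22, 4, 17, 15, 9, 21, 18, 1, 23]
  sH := [
    7, 2, 4, 8, 6, 1, 12, 3, 9, 5, 13, 0]

/-- Generators for `psl23`. -/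
def psl23Gens : List (Matrix.SpecialLinearGroup (Fin 2) (ZMod 3) × alternatingGroup (Fin 4)) :=
  [(⟨!![(fun d : ℕ => (d : ZMod 3)) 0, (fun d : ℕ => (d : ZMod 3)) 1; (fun d : ℕ => (d : ZMod 3)) 2, (fun d : ℕ => (d : ZMod 3)) 2], by decide +kernel⟩, ⟨Equiv.swap 1 2 * Equiv.swap 2 3, Equiv.Perm.mem_alternatingGroup.2 (by decide +kernel)⟩),
   (⟨!![(fun d : ℕ => (d : ZMod 3)) 1, (fun d : ℕ => (d : ZMod 3)) 0; (fun d : ℕ => (d : ZMod 3)) 2, (fun d : ℕ => (d : ZMod 3)) 1], by decide +kernel⟩, ⟨Equiv.swap 0 1 * Equiv.swap 1 3, Equiv.Perm.mem_alternatingGroup.2 (by decide +kernel)⟩)]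

theorem psl23_check : psl23Cert.check
    (psl23Gens.map fun g => (slRep 2 (ZMod 3) g.1, (altRep 4) g.2)) 24 12 = true := by
  decide +kernel

/-- Certificate data for `psl24`. -/
def psl24Cert : IsoCert (Matrix (Fin 2) (Fin 2) GF4) (Function.End (Fin 5)) ℕ where
  L := [
    206055, 775586, 757360, 716367, 567391, 737722, 561045, 323273, 492547, 72853, 243051, 332544,
    483892, 62834, 186529, 646428, 657884, 377582, 436445, 144048, 180883, 620684, 679903, 370852,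
    449441, 147769, 521160, 528363, 140326, 410429, 253539, 265210, 512261, 538214, 142855, 422433,
    294888, 286361, 459857, 339330, 632440, 181616, 397417, 698365, 463702, 304851, 606696, 175970,
    354147, 663846, 228823, 70896, 595108, 736757, 215819, 68415, 576454, 709152, 792639, 774413]
  dflt := 0
  dec t := (decMat 2 4 (fun d : ℕ => (⟨((d % 2 : ℕ) : ZMod 2), ((d / 2 : ℕ) : ZMod 2)⟩ : GF4)) (t / 3125), decFun 4 (t % 3125))
  nxt := [[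
    1, 3, 5, 7, 9, 11, 13, 14, 16, 18, 2, 20, 22, 24, 0, 26, 28, 4, 30, 21, 10, 32, 34, 6,
    36, 15, 38, 8, 40, 31, 17, 42, 44, 12, 46, 37, 23, 48, 49, 41, 27, 50, 52, 19, 43, 47, 33, 54,
    56, 25, 58, 29, 51, 45, 59, 35, 55, 39, 57, 53], [
    2, 4, 6, 8, 10, 12, 0, 15, 17, 19, 1, 21, 23, 25, 13, 27, 29, 3, 31, 20, 9, 33, 35, 5,
    37, 14, 39, 7, 41, 30, 16, 43, 45, 11, 47, 36, 22, 49, 48, 40, 26, 51, 53, 18, 42, 46, 32, 55,
    57, 24, 59, 28, 50, 44, 58, 34, 54, 38, 56, 52]]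
  par := [
    (0, 0), (0, 1), (1, 0), (1, 1), (2, 0), (2, 1), (3, 0), (3, 1), (4, 0), (4, 1), (5, 0), (5, 1),
    (6, 0), (7, 0), (7, 1), (8, 0), (8, 1), (9, 0), (9, 1), (11, 0), (11, 1), (12, 0), (12, 1), (13, 0),
    (13, 1), (15, 0), (15, 1), (16, 0), (16, 1), (18, 0), (18, 1), (21, 0), (21, 1), (22, 0), (22, 1), (24, 0),
    (24, 1), (26, 0), (26, 1), (28, 0), (28, 1), (31, 0), (31, 1), (32, 0), (32, 1), (34, 0), (34, 1), (37, 0),
    (37, 1), (41, 0), (41, 1), (42, 0), (42, 1), (47, 0), (47, 1), (48, 0), (48, 1), (50, 0), (50, 1)]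
  keyM := keyMat 2 4 (fun x => x.re.val + 2 * x.im.val)
  keyN := keyFun 5
  sG := [
    13, 55, 51, 9, 28, 34, 19, 25, 47, 20, 41, 14, 0, 54, 50, 10, 30, 31, 37, 36, 45, 7, 11, 39,
    48, 23, 17, 42, 29, 35, 18, 24, 38, 44, 12, 8, 32, 26, 27, 33, 6, 4, 56, 52, 46, 21, 40, 15,
    16, 49, 22, 43, 57, 3, 53, 5, 2, 59, 1, 58]
  sH := [
    54, 5, 27, 19, 13, 41, 30, 46, 38, 42, 35, 1, 50, 33, 3, 25, 47, 9, 48, 29, 2, 36, 40, 44,
    11, 49, 52, 7, 56, 43, 16, 6, 45, 4, 22, 39, 8, 21, 37, 58, 18, 23, 51, 14, 34, 53, 26, 10,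
    59, 24, 17, 12, 15, 31, 20, 55, 28, 32, 57, 0]

/-- Generators for `psl24`. -/
def psl24Gens : List (Matrix.SpecialLinearGroup (Fin 2) GF4 × alternatingGroup (Fin 5)) :=
  [(⟨!![(fun d : ℕ => (⟨((d % 2 : ℕ) : ZMod 2), ((d / 2 : ℕ) : ZMod 2)⟩ : GF4)) 0, (fun d : ℕ => (⟨((d % 2 : ℕ) : ZMod 2), ((d / 2 : ℕ) : ZMod 2)⟩ : GF4)) 2; (fun d : ℕ => (⟨((d % 2 : ℕ) : ZMod 2), ((d / 2 : ℕ) : ZMod 2)⟩ : GF4)) 3, (fun d : ℕ => (⟨((d % 2 : ℕ) : ZMod 2), ((d / 2 : ℕ) : ZMod 2)⟩ : GF4)) 3], by decide +kernel⟩, ⟨Equiv.swap 0 1 * Equiv.swap 1 2 * Equiv.swap 2 3 * Equiv.swap 3 4, Equiv.Perm.mem_alternatingGroup.2 (by decide +kernel)⟩),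
   (⟨!![(fun d : ℕ => (⟨((d % 2 : ℕ) : ZMod 2), ((d / 2 : ℕ) : ZMod 2)⟩ : GF4)) 2, (fun d : ℕ => (⟨((d % 2 : ℕ) : ZMod 2), ((d / 2 : ℕ) : ZMod 2)⟩ : GF4)) 0; (fun d : ℕ => (⟨((d % 2 : ℕ) : ZMod 2), ((d / 2 : ℕ) : ZMod 2)⟩ : GF4)) 3, (fun d : ℕ => (⟨((d % 2 : ℕ) : ZMod 2), ((d / 2 : ℕ) : ZMod 2)⟩ : GF4)) 3], by decide +kernel⟩, ⟨Equiv.swap 1 2 * Equiv.swap 2 4, Equiv.Perm.mem_alternatingGroup.2 (by decide +kernel)⟩)]

theorem psl24_check : psl24Cert.check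
    (psl24Gens.map fun g => (slRep 2 GF4 g.1, (altRep 5) g.2)) 60 60 = true := by
  decide +kernel

/-- Certificate data for `psl25`. -/
def psl25Cert : IsoCert (Matrix (Fin 2) (Fin 2) (ZMod 5)) (Function.End (Fin 5)) ℕ where
  L := [
    396680, 1731836, 195516, 472617, 1776922, 288478, 1947173, 1654523, 1133928, 511009, 1741679, 202070,
    533960, 720684, 1278839, 552154, 837834, 1227410, 1401830, 1693451, 1109741, 1785865, 281664, 1929759,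
    1666167, 1105507, 1868511, 1179851, 855767, 1064602, 1577930, 1679235, 1527566, 336361, 903607, 141647,
    1592771, 579315, 824285, 1241323, 1336913, 490923, 1752758, 193207, 749701, 1312866, 623233, 806948,
    1347321, 410577, 772417, 869720, 155915, 1501778, 341183, 1286045, 628711, 292391, 600222, 988638,
    1474777, 1454471, 915066, 338954, 947069, 697929, 1622113, 1534857, 329147, 880139, 148329, 1638702,
    1705059, 1160089, 530551, 1911801, 1844940, 1027538, 1561389, 1607544, 1816983, 1412694, 1008480, 1491595,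
    151986, 1050894, 1888242, 664422, 197853, 1361477, 1837722, 1039330, 1451138, 923653, 1433480, 1893335,
    654615, 296332, 970096, 334040, 286445, 574761, 792351, 1196392, 1154795, 760485, 425238, 707648,
    1258632, 968527, 674633, 458396, 1308928, 441919, 1091071, 1388394, 1811529, 144308, 187914, 1209709]
  dflt := 0
  dec t := (decMat 2 5 (fun d : ℕ => (d : ZMod 5)) (t / 3125), decFun 4 (t % 3125))
  nxt := [[
    1, 3, 5, 7, 9, 11, 13, 15, 17, 19, 12, 22, 24, 26, 28, 30, 32, 34, 20, 37, 39, 41, 43, 44,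
    46, 27, 49, 51, 53, 55, 56, 58, 59, 35, 61, 63, 65, 66, 67, 69, 25, 72, 74, 57, 76, 47, 36, 78,
    73, 21, 80, 81, 54, 82, 84, 16, 86, 88, 79, 89, 91, 85, 92, 52, 40, 95, 87, 98, 70, 60, 99, 96,
    101, 103, 31, 105, 106, 108, 109, 110, 111, 77, 48, 64, 68, 112, 107, 23, 100, 104, 113, 45, 29, 94, 114, 50,
    6, 2, 115, 117, 118, 71, 83, 93, 119, 90, 4, 116, 102, 18, 75, 10, 38, 42, 14, 8, 0, 33, 97, 62], [
    2, 4, 6, 8, 10, 12, 14, 16, 18, 20, 21, 23, 25, 27, 29, 31, 33, 35, 36, 38, 40, 42, 3, 45,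
    47, 48, 50, 52, 54, 0, 57, 28, 53, 60, 62, 64, 22, 7, 68, 70, 71, 73, 1, 75, 17, 77, 19, 63,
    79, 11, 39, 69, 59, 83, 61, 85, 87, 41, 72, 90, 37, 15, 93, 94, 80, 96, 97, 32, 81, 34, 82, 100,
    102, 89, 104, 55, 107, 49, 67, 5, 44, 46, 26, 78, 109, 106, 112, 65, 95, 30, 13, 111, 58, 51, 101, 108,
    110, 74, 116, 92, 9, 24, 99, 117, 115, 103, 43, 119, 114, 76, 56, 118, 91, 88, 113, 66, 105, 98, 86, 84]]
  par := [
    (0, 0), (0, 1), (1, 0), (1, 1), (2, 0), (2, 1), (3, 0), (3, 1), (4, 0), (4, 1), (5, 0), (5, 1),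
    (6, 0), (6, 1), (7, 0), (7, 1), (8, 0), (8, 1), (9, 0), (9, 1), (10, 1), (11, 0), (11, 1), (12, 0),
    (12, 1), (13, 0), (13, 1), (14, 0), (14, 1), (15, 0), (15, 1), (16, 0), (16, 1), (17, 0), (17, 1), (18, 1),
    (19, 0), (19, 1), (20, 0), (20, 1), (21, 0), (21, 1), (22, 0), (23, 0), (23, 1), (24, 0), (24, 1), (25, 1),
    (26, 0), (26, 1), (27, 0), (27, 1), (28, 0), (28, 1), (29, 0), (30, 0), (30, 1), (31, 0), (32, 0), (33, 1),
    (34, 0), (34, 1), (35, 0), (35, 1), (36, 0), (37, 0), (38, 0), (38, 1), (39, 0), (39, 1), (40, 1), (41, 0),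
    (41, 1), (42, 0), (43, 1), (44, 0), (45, 1), (47, 0), (48, 1), (50, 0), (51, 0), (53, 0), (53, 1), (54, 0),
    (55, 1), (56, 0), (56, 1), (57, 0), (59, 0), (59, 1), (60, 0), (62, 0), (62, 1), (63, 1), (65, 0), (65, 1),
    (66, 1), (67, 0), (70, 0), (71, 1), (72, 0), (72, 1), (73, 0), (74, 1), (75, 0), (76, 0), (76, 1), (77, 0),
    (78, 0), (79, 0), (80, 0), (85, 0), (90, 0), (94, 0), (98, 0), (98, 1), (99, 0), (100, 0), (104, 0)]
  keyM := keyMat 2 5 (fun x => x.val)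
  keyN := keyFun 5
  sG := [
    35, 117, 70, 84, 52, 118, 43, 2, 88, 11, 22, 100, 5, 57, 97, 68, 99, 33, 63, 54, 0, 49, 106, 113,
    111, 3, 41, 9, 74, 12, 15, 101, 37, 58, 46, 56, 96, 87, 110, 65, 107, 13, 44, 105, 50, 102, 47, 38,
    16, 28, 51, 69, 34, 62, 93, 64, 109, 98, 59, 82, 77, 91, 85, 29, 114, 25, 20, 8, 104, 73, 27, 103,
    119, 17, 39, 108, 14, 55, 112, 45, 40, 48, 89, 115, 18, 81, 94, 92, 61, 60, 83, 53, 32, 67, 78, 30,
    36, 79, 66, 71, 7, 24, 31, 19, 72, 1, 10, 42, 4, 21, 116, 80, 90, 76, 26, 86, 95, 75, 23, 6]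
  sH := [
    64, 58, 66, 6, 16, 20, 22, 48, 34, 24, 54, 1, 39, 14, 3, 85, 51, 5, 35, 10, 31, 59, 37, 49,
    79, 61, 46, 7, 63, 21, 9, 55, 27, 2, 53, 18, 4, 13, 33, 69, 11, 29, 36, 15, 82, 25, 17, 74,
    40, 32, 43, 28, 8, 12, 42, 52, 19, 26, 60, 0]

/-- Generators for `psl25`. -/
def psl25Gens : List (Matrix.SpecialLinearGroup (Fin 2) (ZMod 5) × alternatingGroup (Fin 5)) :=
  [(⟨!![(fun d : ℕ => (d : ZMod 5)) 4, (fun d : ℕ => (d : ZMod 5)) 0; (fun d : ℕ => (d : ZMod 5)) 2, (fun d : ℕ => (d : ZMod 5)) 4], by decide +kernel⟩, ⟨Equiv.swap 0 1 * Equiv.swap 1 2 * Equiv.swap 2 3 * Equiv.swap 3 4, Equiv.Perm.mem_alternatingGroup.2 (by decide +kernel)⟩),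
   (⟨!![(fun d : ℕ => (d : ZMod 5)) 2, (fun d : ℕ => (d : ZMod 5)) 2; (fun d : ℕ => (d : ZMod 5)) 2, (fun d : ℕ => (d : ZMod 5)) 0], by decide +kernel⟩, ⟨Equiv.swap 0 1 * Equiv.swap 1 3 * Equiv.swap 2 3 * Equiv.swap 3 4, Equiv.Perm.mem_alternatingGroup.2 (by decide +kernel)⟩)]

theorem psl25_check : psl25Cert.check
    (psl25Gens.map fun g => (slRep 2 (ZMod 5) g.1, (altRep 5) g.2)) 120 60 = true := by
  decide +kernel

end CfsgLib.Linear
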