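import Cfsg.Agent.Linear.SylowChar
import Cfsg.Agent.TwoGroupsQ.UniqueInvolution
import Cfsg.Agent.S0268

/-!
# Sylow subgroups of `SL(2,q)` away from the characteristic

Centralisers of elements of trace `≠ ±2` are cyclic; `r`-subgroups (`r` odd, not the
characteristic) are cyclic; 2-subgroups are cyclic or generalised quaternion, and a subgroup with
two Sylow `p`-subgroups has non-cyclic Sylow 2-subgroups.
-/

set_option autoImplicit false

namespace CfsgLib.Linear

open Matrix
open scoped MatrixGroups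

variable {F : Type*} [Field F]

/-- Coordinates of an element commuting with a non-scalar `2 × 2` matrix. -/
theorem exists_coord {g y : Matrix (Fin 2) (Fin 2) F}
    (hg : g 0 1 ≠ 0 ∨ g 1 0 ≠ 0 ∨ g 0 0 ≠ g 1 1) (h : g * y = y * g) :
    ∃ a b : F, y = a • 1 + b • g := by
  have e00 := congrFun (congrFun h 0) 0
  have e01 := congrFun (congrFun h 0) 1
  have e10 := congrFun (congrFun h 1) 0
  simp only [Matrix.mul_apply, Fin.sum_univ_two] at e00 e01 e10
  rcases hg with h1 | h1 | h1
  · refine ⟨y 0 0 - y 0 1 / g 0 1 * g 0 0, y 0 1 / g 0 1, ?_⟩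
    ext i j
    fin_cases i <;> fin_cases j <;> simp <;> field_simp
    · linear_combination e00
    · linear_combination e01
  · refine ⟨y 0 0 - y 1 0 / g 1 0 * g 0 0, y 1 0 / g 1 0, ?_⟩
    ext i j
    fin_cases i <;> fin_cases j <;> simp <;> field_simp
    · linear_combination -e00
    · linear_combination -e10
  · have h2 : g 0 0 - g 1 1 ≠ 0 := sub_ne_zero.2 h1
    refine ⟨y 0 0 - (y 0 0 - y 1 1) / (g 0 0 - g 1 1) * g 0 0,
      (y 0 0 - y 1 1) / (g 0 0 - g 1 1), ?_⟩
    ext i j
    fin_cases i <;> fin_cases j <;> simp <;> field_simp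
    · linear_combination e01
    · linear_combination -e10
    · ring

theorem det_smul_one_add_smul {g : Matrix (Fin 2) (Fin 2) F} (hdet : g.det = 1) (a b : F) :
    (a • 1 + b • g).det = a ^ 2 + a * b * g.trace + b ^ 2 := by
  rw [Matrix.det_fin_two] at hdet
  rw [Matrix.det_fin_two, Matrix.trace_fin_two]
  simp
  linear_combination b ^ 2 * hdet

theorem nonScalar_of_trace {g : SL(2, F)} (ht : g.1.trace ^ 2 ≠ 4) :
    g.1 0 1 ≠ 0 ∨ g.1 1 0 ≠ 0 ∨ g.1 0 0 ≠ g.1 1 1 := by
  by_contra hcon
  push Not at hcon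
  obtain ⟨h1, h2, h3⟩ := hcon
  apply ht
  have hd := g.2
  rw [Matrix.det_fin_two, h1, h3] at hd
  rw [Matrix.trace_fin_two, h3]
  linear_combination 4 * hd

/-- The eigenvalue character of the centraliser of a semisimple element. -/
theorem exists_centralizer_hom (g : SL(2, F)) (ht : g.1.trace ^ 2 ≠ 4) :
    ∃ (φ : Subgroup.centralizer ({g} : Set SL(2, F)) →* AlgebraicClosure F) (l : AlgebraicClosure F),
      Function.Injective φ ∧ φ ⟨g, Subgroup.mem_centralizer_singleton_iff.2 rfl⟩ = l ∧
      l ^ 2 - algebraMap F _ g.1.trace * l + 1 = 0 ∧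
      ∀ y, φ y ^ 2 - algebraMap F _ y.1.1.trace * φ y + 1 = 0 := by
  have hns := nonScalar_of_trace ht
  set A := algebraMap F (AlgebraicClosure F) with hA
  obtain ⟨l, hl⟩ := IsAlgClosed.exists_root
    (Polynomial.C (1 : AlgebraicClosure F) * Polynomial.X ^ 2 +
      Polynomial.C (-A g.1.trace) * Polynomial.X + Polynomial.C 1)
    (by rw [Polynomial.degree_quadratic one_ne_zero]; exact two_ne_zero)
  simp at hl
  replace hl : l ^ 2 - A g.1.trace * l + 1 = 0 := by linear_combination hl
  have huniq : ∀ a b a' b' : F, a • (1 : Matrix (Fin 2) (Fin 2) F) + b • g.1 = a' • 1 + b' • g.1 →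
      a = a' ∧ b = b' := by
    intro a b a' b' h
    have e00 := congrFun (congrFun h 0) 0
    have e01 := congrFun (congrFun h 0) 1
    have e10 := congrFun (congrFun h 1) 0
    have e11 := congrFun (congrFun h 1) 1
    simp at e00 e01 e10 e11
    have hb : b = b' := by
      rcases hns with h1 | h1 | h1
      · exact e01.resolve_right h1
      · exact e10.resolve_right h1
      · exact mul_right_cancel₀ (sub_ne_zero.2 h1) (by linear_combination e00 - e11)
    refine ⟨?_, hb⟩
    subst hb
    simpa using e00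
  have hex : ∀ y : Subgroup.centralizer ({g} : Set SL(2, F)),
      ∃ a b : F, y.1.1 = a • 1 + b • g.1 := fun y => exists_coord hns
    (congrArg (fun m : Matrix.SpecialLinearGroup (Fin 2) F => m.1)
      (Subgroup.mem_centralizer_singleton_iff.1 y.2)).symm
  choose a b hab using hex
  have hmk : ∀ (y : Subgroup.centralizer ({g} : Set SL(2, F))) (s t : F),
      y.1.1 = s • 1 + t • g.1 → A (a y) + A (b y) * l = A s + A t * l := by
    intro y s t hy
    obtain ⟨h1, h2⟩ := huniq _ _ _ _ ((hab y).symm.trans hy)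
    rw [h1, h2]
  have hsq : g.1 * g.1 = g.1.trace • g.1 - 1 := by
    have hd := g.2
    rw [Matrix.det_fin_two] at hd
    ext i j
    fin_cases i <;> fin_cases j <;>
      simp [Matrix.mul_apply, Fin.sum_univ_two, Matrix.trace_fin_two] <;>
      first | ring1 | linear_combination -hd
  let φ : Subgroup.centralizer ({g} : Set SL(2, F)) →* AlgebraicClosure F :=
    { toFun := fun y => A (a y) + A (b y) * l
      map_one' := by rw [hmk 1 1 0 (by simp)]; simp
      map_mul' := fun x y => by
        rw [hmk (x * y) (a x * a y - b x * b y) (a x * b y + b x * a y + b x * b y * g.1.trace) (by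
          rw [Subgroup.coe_mul, Matrix.SpecialLinearGroup.coe_mul, hab x, hab y]
          simp only [add_mul, mul_add, smul_mul_assoc, mul_smul_comm, one_mul, mul_one, smul_smul,
            hsq, smul_sub]
          module)]
        simp only [map_add, map_sub, map_mul]
        linear_combination -(A (b x) * A (b y)) * hl }
  have hdet : ∀ y, a y ^ 2 + a y * b y * g.1.trace + b y ^ 2 = 1 := fun y => by
    rw [← det_smul_one_add_smul g.2, ← hab y]; exact y.1.2
  refine ⟨φ, l, ?_, ?_, hl, fun y => ?_⟩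
  · intro x y hxy
    have h1 := congrArg A (hdet x)
    have h2 := congrArg A (hdet y)
    simp only [map_add, map_mul, map_pow, map_one] at h1 h2
    change A (a x) + A (b x) * l = A (a y) + A (b y) * l at hxy
    have hne : A (a x) + A (b x) * l ≠ 0 := by
      intro h0
      have hprod : (A (a x) + A (b x) * l) * (A (a x) + A (b x) * (A g.1.trace - l)) = 1 := by
        linear_combination h1 - (A (b x)) ^ 2 * hl
      rw [h0, zero_mul] at hprod
      exact zero_ne_one hprod
    have h3 : A (a x) + A (b x) * (A g.1.trace - l) = A (a y) + A (b y) * (A g.1.trace - l) := by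
      apply mul_left_cancel₀ hne
      rw [show (A (a x) + A (b x) * l) * (A (a x) + A (b x) * (A g.1.trace - l)) = 1 by
        linear_combination h1 - (A (b x)) ^ 2 * hl, hxy]
      linear_combination -h2 + (A (b y)) ^ 2 * hl
    have h4 : 2 * l - A g.1.trace ≠ 0 := by
      intro h0
      apply ht
      apply A.injective
      rw [map_pow, map_ofNat]
      linear_combination (-4 : AlgebraicClosure F) * hl + (2 * l - A g.1.trace) * h0
    have hb : A (b x) = A (b y) := mul_left_cancel₀ h4 (by linear_combination hxy - h3)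
    have ha : A (a x) = A (a y) := by linear_combination hxy - l * hb
    apply Subtype.ext
    apply Subtype.ext
    rw [hab x, hab y, A.injective ha, A.injective hb]
  · change A (a _) + A (b _) * l = l
    rw [hmk _ 0 1 (by simp)]
    simp
  · have h1 := congrArg A (hdet y)
    simp only [map_add, map_mul, map_pow, map_one] at h1
    change (A (a y) + A (b y) * l) ^ 2 - A y.1.1.trace * (A (a y) + A (b y) * l) + 1 = 0
    rw [hab y, Matrix.trace_add, Matrix.trace_smul, Matrix.trace_smul, Matrix.trace_one,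
      Fintype.card_fin, smul_eq_mul, smul_eq_mul, map_add, map_mul, map_mul, Nat.cast_ofNat,
      map_ofNat]
    linear_combination (A (b y)) ^ 2 * hl - h1

/-- Centralisers of semisimple non-central elements of `SL(2,q)` are cyclic. -/
theorem isCyclic_centralizer [Finite F] (g : SL(2, F)) (ht : g.1.trace ^ 2 ≠ 4) :
    IsCyclic (Subgroup.centralizer ({g} : Set SL(2, F))) := by
  obtain ⟨φ, -, hinj, -, -, -⟩ := exists_centralizer_hom g ht
  exact isCyclic_of_injective_ringHom φ hinj

/-- Elements of order prime to `2p` have trace `≠ ±2`. -/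
theorem trace_sq_ne_four (p : ℕ) [Fact p.Prime] [CharP F p] {r : ℕ} [hr : Fact r.Prime]
    (hr2 : r ≠ 2) (hrp : r ≠ p) (g : SL(2, F)) (hg : orderOf g = r) : g.1.trace ^ 2 ≠ 4 := by
  intro h
  obtain ⟨ε, hε, he⟩ : ∃ ε : F, ε ^ 2 = 1 ∧ g.1.trace = 2 * ε := by
    have h' : (g.1.trace - 2) * (g.1.trace + 2) = 0 := by linear_combination h
    rcases mul_eq_zero.1 h' with h'' | h''
    · exact ⟨1, one_pow 2, by linear_combination h''⟩
    · exact ⟨-1, by ring, by linear_combination h''⟩
  have hd := g.2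
  rw [Matrix.det_fin_two] at hd
  rw [Matrix.trace_fin_two] at he
  have hsq : (g.1 - ε • 1) ^ 2 = 0 := by
    rw [pow_two]
    ext i j
    fin_cases i <;> fin_cases j <;> simp [Matrix.mul_apply, Fin.sum_univ_two]
    · linear_combination g.1 0 0 * he - hd + hε
    · linear_combination g.1 0 1 * he
    · linear_combination g.1 1 0 * he
    · linear_combination g.1 1 1 * he - hd + hε
  have hN : (g.1 - ε • 1) ^ p = 0 := pow_eq_zero_of_le (Fact.out : p.Prime).two_le hsq
  have e := add_pow_char_of_commute p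
    ((Commute.one_right (g.1 - ε • 1)).smul_right ε)
  rw [sub_add_cancel, hN, zero_add, _root_.smul_pow, one_pow] at e
  have h2p : g ^ (p * 2) = 1 := by
    apply Subtype.ext
    rw [pow_mul, Matrix.SpecialLinearGroup.coe_pow, Matrix.SpecialLinearGroup.coe_pow, e,
      _root_.smul_pow, one_pow, ← pow_mul, mul_comm, pow_mul, hε, one_pow, one_smul]
    rfl
  have hd2 := orderOf_dvd_of_pow_eq_one h2p
  rw [hg] at hd2
  rcases hr.out.dvd_mul.1 hd2 with h1 | h1
  · exact hrp ((Nat.prime_dvd_prime_iff_eq hr.out Fact.out).1 h1)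
  · exact hr2 ((Nat.prime_dvd_prime_iff_eq hr.out Nat.prime_two).1 h1)

variable [Finite F]

/-- `r`-subgroups of `SL(2,q)` are cyclic for odd `r` prime to `q`. -/
theorem isCyclic_of_isPGroup (p : ℕ) [Fact p.Prime] [CharP F p] {r : ℕ} [hr : Fact r.Prime]
    (hr2 : r ≠ 2) (hrp : r ≠ p) (R : Subgroup SL(2, F)) (hR : IsPGroup r R) : IsCyclic R := by
  rcases subsingleton_or_nontrivial R with h | h
  · infer_instance
  · have := hR.center_nontrivial
    obtain ⟨z, hz⟩ := exists_prime_orderOf_dvd_card' r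
      (show r ∣ Nat.card (Subgroup.center R) by
        obtain ⟨m, hm, hm'⟩ := (hR.to_subgroup (Subgroup.center R)).nontrivial_iff_card.1 this
        exact hm' ▸ dvd_pow_self r hm.ne')
    have hz' : orderOf (z.1.1 : SL(2, F)) = r := by
      rw [Subgroup.orderOf_coe, Subgroup.orderOf_coe, hz]
    have hle : R ≤ Subgroup.centralizer ({z.1.1} : Set SL(2, F)) := fun x hx =>
      Subgroup.mem_centralizer_singleton_iff.2
        (congrArg Subtype.val (Subgroup.mem_center_iff.1 z.2 ⟨x, hx⟩))
    have := isCyclic_centralizer z.1.1 (trace_sq_ne_four p hr2 hrp _ hz')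
    exact isCyclic_of_injective (Subgroup.inclusion hle) (Subgroup.inclusion_injective hle)

omit [Finite F] in
/-- An element of odd order normalising a subgroup generated by a semisimple element centralises
it. -/
theorem commute_of_odd_normalizing (x g : SL(2, F)) (ht : x.1.trace ^ 2 ≠ 4)
    (hg : g * x * g⁻¹ ∈ Subgroup.zpowers x) (hodd : Odd (orderOf g)) : Commute g x := by
  obtain ⟨φ, l, hinj, hl, hroot, hquad⟩ := exists_centralizer_hom x ht
  have hy : g * x * g⁻¹ ∈ Subgroup.centralizer ({x} : Set SL(2, F)) := by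
    obtain ⟨i, hi⟩ := hg
    rw [Subgroup.mem_centralizer_singleton_iff, ← hi]
    exact ((Commute.refl x).zpow_left i).eq
  have hxi : x⁻¹ ∈ Subgroup.centralizer ({x} : Set SL(2, F)) :=
    Subgroup.inv_mem _ (Subgroup.mem_centralizer_singleton_iff.2 rfl)
  have hy2 : g * x * g⁻¹ = x ∨ g * x * g⁻¹ = x⁻¹ := by
    have htr : (g * x * g⁻¹).1.trace = x.1.trace := by
      rw [Matrix.SpecialLinearGroup.coe_mul, Matrix.trace_mul_comm,
        ← Matrix.SpecialLinearGroup.coe_mul, ← mul_assoc, inv_mul_cancel, one_mul]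
    have hq := hquad ⟨_, hy⟩
    rw [htr] at hq
    have hinv : l * φ ⟨x⁻¹, hxi⟩ = 1 := by
      rw [← hl, ← map_mul, ← map_one φ]
      exact congrArg φ (Subtype.ext (mul_inv_cancel x))
    have h0 : (φ ⟨_, hy⟩ - l) * (φ ⟨_, hy⟩ - φ ⟨x⁻¹, hxi⟩) = 0 := by
      linear_combination hq + hinv -
        φ ⟨_, hy⟩ * ((φ ⟨x⁻¹, hxi⟩) * hroot - (l - algebraMap F _ x.1.trace) * hinv)
    rcases mul_eq_zero.1 h0 with h | h
    · left
      rw [sub_eq_zero, ← hl] at h
      exact congrArg Subtype.val (hinj h)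
    · right
      exact congrArg Subtype.val (hinj (sub_eq_zero.1 h))
  rcases hy2 with h | h
  · exact (mul_inv_eq_iff_eq_mul.1 h)
  · have h2 : Commute (g ^ 2) x := by
      rw [commute_iff_eq, sq, ← mul_inv_eq_iff_eq_mul, _root_.mul_inv_rev, ← mul_assoc,
        mul_assoc g g, mul_assoc g (g * x), h]
      rw [← _root_.inv_inj] at h
      simpa [mul_assoc] using h
    obtain ⟨k, hk⟩ := hodd
    have : g = (g ^ 2) ^ (k + 1) := by
      rw [← pow_mul, show 2 * (k + 1) = orderOf g + 1 by omega, pow_succ, pow_orderOf_eq_one,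
        one_mul]
    rw [this]
    exact h2.pow_left _

omit [Finite F] in
/-- An involution of `SL(2,F)` in odd characteristic is `-1`. -/
theorem eq_neg_one_of_sq [Fintype F] (hF : Odd (Fintype.card F)) (g : SL(2, F)) (h1 : g ≠ 1)
    (h2 : g ^ 2 = 1) : g = -1 :=
  Subtype.ext ((Cfsg.Agent.S0268.result hF g h1 (by rw [← sq, h2])).trans (by simp))

/-- 2-subgroups of `SL(2,q)`, `q` odd, are cyclic or generalised quaternion. -/
theorem isCyclic_or_quaternion_two [Fintype F] (hF : Odd (Fintype.card F)) (S : Subgroup SL(2, F))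
    (hS : IsPGroup 2 S) :
    IsCyclic S ∨ ∃ m : ℕ, 1 ≤ m ∧ Nonempty (S ≃* QuaternionGroup (2 ^ m)) := by
  have hu : CfsgLib.TwoGroupsQ.HasUniqueOrderP S 2 := by
    refine CfsgLib.TwoGroupsQ.hasUniqueOrderP_two fun x y hx hx1 hy hy1 => ?_
    apply Subtype.ext
    rw [eq_neg_one_of_sq hF x.1 (fun e => hx1 (Subtype.ext e)) (congrArg Subtype.val hx),
      eq_neg_one_of_sq hF y.1 (fun e => hy1 (Subtype.ext e)) (congrArg Subtype.val hy)]
  rcases CfsgLib.TwoGroupsQ.isCyclic_or_quaternion hS hu with h | ⟨-, h⟩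
  · exact Or.inl h
  · exact Or.inr h

/-- The standard homomorphism `Q₈ → SL(2,F)` attached to `a² + b² = -1`, on a generator pair. -/
theorem exists_anticommuting_pair [Fintype F] (_hF : Odd (Fintype.card F)) :
    ∃ i j : SL(2, F), i * i = -1 ∧ j * j = -1 ∧ j * i = -(i * j) := by
  obtain ⟨p, hp⟩ := CharP.exists F
  have : NeZero p := ⟨CharP.char_ne_zero_of_finite F p⟩
  obtain ⟨a, b, hab⟩ := CharP.sq_add_sq F p (-1)
  push_cast at hab
  obtain ⟨i, hi⟩ : ∃ i : SL(2, F), i.1 = !![0, 1; -1, 0] :=
    ⟨⟨!![0, 1; -1, 0], by simp [Matrix.det_fin_two]⟩, rfl⟩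
  obtain ⟨j, hj⟩ : ∃ j : SL(2, F), j.1 = !![(a : F), b; b, -(a : F)] :=
    ⟨⟨!![(a : F), b; b, -(a : F)], by simp [Matrix.det_fin_two]; linear_combination -hab⟩, rfl⟩
  refine ⟨i, j, ?_, ?_, ?_⟩
  all_goals
    apply Subtype.ext
    ext x y
    fin_cases x <;> fin_cases y <;> simp [hi, hj, Matrix.mul_apply, Fin.sum_univ_two]
  all_goals first | linear_combination hab | ring1

omit [Finite F] in
theorem two_ne_zero_of_odd [Fintype F] (hF : Odd (Fintype.card F)) : (2 : F) ≠ 0 := by
  intro h
  have hc := (ringChar.spec F 2).1 (by exact_mod_cast h)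
  have h2 : ringChar F = 2 := ((Nat.dvd_prime Nat.prime_two).1 hc).resolve_left CharP.ringChar_ne_one
  have := FiniteField.even_card_iff_char_two.1 h2
  rw [Nat.odd_iff] at hF
  omega

omit [Finite F] in
theorem neg_one_ne_one [Fintype F] (hF : Odd (Fintype.card F)) : (-1 : SL(2, F)) ≠ 1 := by
  intro h
  apply two_ne_zero_of_odd hF
  have := congrArg (fun g : SL(2, F) => g.1 0 0) h
  simp at this
  linear_combination -this

/-- A Sylow 2-subgroup of `SL(2,q)` (odd `q`) is not cyclic. -/
theorem not_isCyclic_sylow_two [Fintype F] (hF : Odd (Fintype.card F))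
    (P : Sylow 2 (Matrix.SpecialLinearGroup (Fin 2) F)) :
    ¬ IsCyclic (P : Subgroup SL(2, F)) := by
  obtain ⟨i, j, hi, hj, hij⟩ := exists_anticommuting_pair hF
  have h2 : Fact (Nat.Prime 2) := ⟨Nat.prime_two⟩
  have hi4 : i ^ 4 = 1 := by
    rw [show 4 = 2 + 2 from rfl, pow_add, sq, hi, neg_mul_neg, one_mul]
  have hji : j * i * j⁻¹ = i⁻¹ := by
    rw [mul_inv_eq_iff_eq_mul, eq_inv_mul_iff_mul_eq, ← mul_assoc, mul_assoc i j i, hij, mul_neg,
      ← mul_assoc, hi, neg_mul, one_mul, neg_neg]
  -- the eight-element group they generate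
  have hnorm : Subgroup.zpowers j ≤ Subgroup.normalizer (Subgroup.zpowers i : Set SL(2, F)) := by
    rw [Subgroup.zpowers_le, Subgroup.mem_normalizer_iff]
    have e : (Subgroup.zpowers i).map (MulAut.conj j).toMonoidHom = Subgroup.zpowers i := by
      rw [MonoidHom.map_zpowers]
      change Subgroup.zpowers (j * i * j⁻¹) = _
      rw [hji, Subgroup.zpowers_inv]
    intro x
    refine ⟨fun hx => ?_, fun hx => ?_⟩
    · rw [← e]; exact ⟨x, hx, rfl⟩
    · rw [← e] at hx
      obtain ⟨y, hy, hy'⟩ := hx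
      exact (MulAut.conj j).injective hy' ▸ hy
  have hpi : IsPGroup 2 (Subgroup.zpowers i) := by
    obtain ⟨k, -, hk⟩ := (Nat.dvd_prime_pow Nat.prime_two).1
      (orderOf_dvd_of_pow_eq_one (show i ^ 2 ^ 2 = 1 from hi4))
    exact IsPGroup.of_card (n := k) (by rw [Nat.card_zpowers, hk])
  have hpj : IsPGroup 2 (Subgroup.zpowers j) := by
    have hj4 : j ^ 2 ^ 2 = 1 := by
      rw [show 2 ^ 2 = 2 + 2 from rfl, pow_add, sq, hj, neg_mul_neg, one_mul]
    obtain ⟨k, -, hk⟩ := (Nat.dvd_prime_pow Nat.prime_two).1 (orderOf_dvd_of_pow_eq_one hj4)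
    exact IsPGroup.of_card (n := k) (by rw [Nat.card_zpowers, hk])
  obtain ⟨Q, hQ⟩ := (IsPGroup.to_sup_of_normal_left' hpi hpj hnorm).exists_le_sylow
  intro hcyc
  have hQc : IsCyclic (Q : Subgroup SL(2, F)) :=
    isCyclic_of_surjective _ (Sylow.equiv P Q).surjective
  obtain ⟨g, hg⟩ := hQc.exists_generator
  obtain ⟨a, ha⟩ := hg ⟨i, hQ (Subgroup.mem_sup_left (Subgroup.mem_zpowers i))⟩
  obtain ⟨b, hb⟩ := hg ⟨j, hQ (Subgroup.mem_sup_right (Subgroup.mem_zpowers j))⟩
  have hc : i * j = j * i := by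
    have ha' : (g.1 : SL(2, F)) ^ a = i := congrArg Subtype.val ha
    have hb' : (g.1 : SL(2, F)) ^ b = j := congrArg Subtype.val hb
    rw [← ha', ← hb']
    exact ((Commute.refl _).zpow_zpow a b).eq
  have h1 : (-1 : SL(2, F)) = 1 := by
    rw [hij, ← neg_one_mul (i * j)] at hc
    exact mul_right_cancel (hc.symm.trans (one_mul (i * j)).symm)
  exact neg_one_ne_one hF h1

/-- The Sylow 2-subgroups of `SL(2,q)`, `q` odd, are generalised quaternion. -/
theorem sylow_two_quaternion [Fintype F] (hF : Odd (Fintype.card F))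
    (P : Sylow 2 (Matrix.SpecialLinearGroup (Fin 2) F)) :
    ∃ m : ℕ, 1 ≤ m ∧ Nonempty ((P : Subgroup SL(2, F)) ≃* QuaternionGroup (2 ^ m)) :=
  (isCyclic_or_quaternion_two hF _ P.2).resolve_left (not_isCyclic_sylow_two hF P)

/-- In a finite cyclic group all elements killed by `r` are powers of any one of order `r`. -/
theorem mem_zpowers_of_pow_eq_one {G : Type*} [Group G] [Finite G] [IsCyclic G] {r : ℕ} (hr : 0 < r)
    {a b : G} (hb : orderOf b = r) (ha : a ^ r = 1) : a ∈ Subgroup.zpowers b := by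
  classical
  have := Fintype.ofFinite G
  have hsub : (Finset.univ.filter fun x : G => x ∈ Subgroup.zpowers b) ⊆
      Finset.univ.filter fun x : G => x ^ r = 1 := by
    intro x hx
    rw [Finset.mem_filter] at hx ⊢
    obtain ⟨k, rfl⟩ := hx.2
    refine ⟨Finset.mem_univ _, ?_⟩
    rw [← zpow_natCast, ← _root_.zpow_mul, mul_comm, _root_.zpow_mul, zpow_natCast, ← hb,
      pow_orderOf_eq_one, _root_.one_zpow]
  have hcard : (Finset.univ.filter fun x : G => x ∈ Subgroup.zpowers b).card = r := by
    rw [← Fintype.card_subtype, ← Nat.card_eq_fintype_card, ← hb]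
    exact Nat.card_zpowers b
  have he := Finset.eq_of_subset_of_card_le hsub (hcard.symm ▸ IsCyclic.card_pow_eq_one_le hr)
  have : a ∈ Finset.univ.filter fun x : G => x ∈ Subgroup.zpowers b := by rw [he]; simp [ha]
  simpa using this

/-- An odd-order subgroup of `SL(2,q)` has only one Sylow `p`-subgroup. -/
theorem subsingleton_sylow_of_odd (p : ℕ) [hp : Fact p.Prime] [CharP F p]
    (N : Subgroup SL(2, F)) (hN : Odd (Nat.card N)) : Subsingleton (Sylow p N) := by
  induction hn : Nat.card N using Nat.strong_induction_on generalizing N with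
  | _ n ih =>
    by_cases hr : ∃ r, r.Prime ∧ r ≠ p ∧ r ∣ Nat.card N
    · obtain ⟨r, hr, hrp, hrN⟩ := hr
      have : Fact r.Prime := ⟨hr⟩
      have hr2 : r ≠ 2 := by
        rintro rfl
        exact (Nat.not_even_iff_odd.2 hN) (even_iff_two_dvd.2 hrN)
      obtain ⟨R⟩ : Nonempty (Sylow r N) := inferInstance
      obtain ⟨y, hy⟩ := exists_prime_orderOf_dvd_card' r
        (show r ∣ Nat.card (R : Subgroup N) from R.dvd_card_of_dvd_card hrN)
      have hcyc : IsCyclic ((R : Subgroup N).map N.subtype) :=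
        isCyclic_of_isPGroup p hr2 hrp _ (R.2.map _)
      have hy' : orderOf (y.1.1 : SL(2, F)) = r := by
        rw [Subgroup.orderOf_coe, Subgroup.orderOf_coe, hy]
      have ht := trace_sq_ne_four p hr2 hrp _ hy'
      have hnc : Subgroup.normalizer ((R : Subgroup N) : Set N) ≤
          Subgroup.centralizer ((R : Subgroup N) : Set N) := by
        intro g hg
        have hgy : g.1 * y.1.1 * g.1⁻¹ ∈ Subgroup.zpowers y.1.1 := by
          obtain ⟨z, hz⟩ := hcyc.exists_generator
          have hmem : ∀ u : N, u ∈ R → u.1 ∈ Subgroup.zpowers (z.1 : SL(2, F)) := fun u hu => by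
            obtain ⟨k, hk⟩ := hz ⟨u.1, u, hu, rfl⟩
            exact ⟨k, congrArg Subtype.val hk⟩
          have h1 := hmem y.1 y.2
          have h2 := hmem (g * y.1 * g⁻¹) ((Subgroup.mem_normalizer_iff.1 hg y.1).1 y.2)
          have : Finite (Subgroup.zpowers (z.1 : SL(2, F))) := inferInstance
          obtain ⟨k, hk⟩ := mem_zpowers_of_pow_eq_one hr.pos
            (a := (⟨_, h2⟩ : Subgroup.zpowers (z.1 : SL(2, F)))) (b := ⟨_, h1⟩)
            (by rw [Subgroup.orderOf_mk, hy'])
            (Subtype.ext (by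
              change (g.1 * y.1.1 * g.1⁻¹) ^ r = 1
              have hh := pow_orderOf_eq_one (y.1.1 : SL(2, F))
              rw [hy'] at hh
              rw [conj_pow, hh, mul_one, mul_inv_cancel]))
          exact ⟨k, congrArg Subtype.val hk⟩
        have hodd : Odd (orderOf g.1) := by
          rw [Subgroup.orderOf_coe]
          exact hN.of_dvd_nat (orderOf_dvd_natCard g)
        have hcg : g.1 ∈ Subgroup.centralizer ({y.1.1} : Set SL(2, F)) :=
          Subgroup.mem_centralizer_singleton_iff.2 (commute_of_odd_normalizing _ _ ht hgy hodd).eq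
        obtain ⟨z, hz⟩ := (isCyclic_centralizer _ ht).exists_generator
        have hR : ∀ u : N, u ∈ R → u.1 ∈ Subgroup.centralizer ({y.1.1} : Set SL(2, F)) :=
          fun u hu => Subgroup.mem_centralizer_singleton_iff.2 (by
            obtain ⟨w, hw⟩ := hcyc.exists_generator
            obtain ⟨k, hk⟩ := hw ⟨u.1, u, hu, rfl⟩
            obtain ⟨l, hl⟩ := hw ⟨y.1.1, y.1, y.2, rfl⟩
            have hk' : (w.1 : SL(2, F)) ^ k = u.1 := congrArg Subtype.val hk
            have hl' : (w.1 : SL(2, F)) ^ l = y.1.1 := congrArg Subtype.val hl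
            rw [← hk', ← hl']
            exact ((Commute.refl _).zpow_zpow k l).eq)
        rw [Subgroup.mem_centralizer_iff]
        intro u hu
        obtain ⟨k, hk⟩ := hz ⟨_, hR u hu⟩
        obtain ⟨l, hl⟩ := hz ⟨_, hcg⟩
        apply Subtype.ext
        have hk' : (z.1 : SL(2, F)) ^ k = u.1 := congrArg Subtype.val hk
        have hl' : (z.1 : SL(2, F)) ^ l = g.1 := congrArg Subtype.val hl
        rw [Subgroup.coe_mul, Subgroup.coe_mul, ← hk', ← hl']
        exact ((Commute.refl _).zpow_zpow k l).eq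
      set M := (MonoidHom.transferSylow R hnc).ker with hM
      have hcomp := MonoidHom.ker_transferSylow_isComplement' R hnc
      have hMN : M.Normal := MonoidHom.normal_ker _
      have hcard : Nat.card M * Nat.card (R : Subgroup N) = Nat.card N := hcomp.card_mul_card
      have hR1 : 1 < Nat.card (R : Subgroup N) :=
        lt_of_lt_of_le hr.one_lt (Nat.le_of_dvd Nat.card_pos (R.dvd_card_of_dvd_card hrN))
      have hcM : Nat.card (M.map N.subtype) = Nat.card M :=
        Subgroup.card_map_of_injective N.subtype_injective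
      have hlt : Nat.card (M.map N.subtype) < n := by
        rw [hcM, ← hn, ← hcard]
        exact (Nat.lt_mul_iff_one_lt_right Nat.card_pos).2 hR1
      have hsub := ih _ hlt (M.map N.subtype)
        (by rw [hcM]; exact hN.of_dvd_nat (Dvd.intro _ hcard)) rfl
      refine ⟨fun P Q => ?_⟩
      have hle : ∀ P : Sylow p N, (P : Subgroup N) ≤ M := by
        intro P x hx
        have hco : Nat.Coprime (orderOf x) (Nat.card (R : Subgroup N)) := by
          obtain ⟨u, hu⟩ := P.2.exists_card_eq
          obtain ⟨v, hv⟩ := R.2.exists_card_eq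
          apply Nat.Coprime.coprime_dvd_left (by
            simpa using (orderOf_dvd_natCard (⟨x, hx⟩ : (P : Subgroup N))))
          rw [hu, hv]
          exact Nat.Coprime.pow _ _ ((Nat.coprime_primes hp.out hr).2 (Ne.symm hrp))
        rw [hM, MonoidHom.mem_ker, ← orderOf_eq_one_iff]
        exact Nat.eq_one_of_dvd_coprimes hco (orderOf_map_dvd _ x) (orderOf_dvd_natCard _)
      have e : M ≃* M.map N.subtype := M.equivMapOfInjective _ N.subtype_injective
      have : Subsingleton (Sylow p M) := by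
        refine ⟨fun A B => Sylow.ext ?_⟩
        have h : (A : Subgroup M).map e.toMonoidHom = (B : Subgroup M).map e.toMonoidHom :=
          congrArg Sylow.toSubgroup (Subsingleton.elim (A.mapSurjective (f := e.toMonoidHom) e.surjective)
            (B.mapSurjective (f := e.toMonoidHom) e.surjective) :)
        exact Subgroup.map_injective e.injective h
      exact Sylow.subtype_injective (hP := hle P) (hQ := hle Q) (Subsingleton.elim _ _)
    · push Not at hr
      have hp' : IsPGroup p N := by
        refine IsPGroup.iff_orderOf.2 fun g => ?_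
        refine ⟨_, Nat.eq_prime_pow_of_unique_prime_dvd (orderOf_pos g).ne' fun {d} hd hdg => ?_⟩
        by_contra hne
        exact hr d hd hne (hdg.trans (orderOf_dvd_natCard g))
      refine ⟨fun P Q => Sylow.ext ?_⟩
      rw [← P.is_maximal' (hp'.to_subgroup ⊤) le_top, ← Q.is_maximal' (hp'.to_subgroup ⊤) le_top]

/-- A subgroup of `SL(2,q)` (odd `q`) with two Sylow `p`-subgroups has generalised quaternion
Sylow 2-subgroups. -/
theorem sylow_two_quaternion_of_two_sylow [Fintype F] (p : ℕ) [hp : Fact p.Prime] [CharP F p]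
    (hp2 : p ≠ 2) (H : Subgroup SL(2, F)) (hH : 1 < Nat.card (Sylow p H)) (S : Sylow 2 H) :
    ∃ k : ℕ, 1 ≤ k ∧ Nonempty ((S : Subgroup H) ≃* QuaternionGroup (2 ^ k)) := by
  have hF : Odd (Fintype.card F) := by
    obtain ⟨a, -, h⟩ := card_eq_prime_pow (F := F) p
    exact h ▸ (hp.out.odd_of_ne_two hp2).pow
  have e : (S : Subgroup H) ≃* ((S : Subgroup H).map H.subtype) :=
    (S : Subgroup H).equivMapOfInjective _ H.subtype_injective
  rcases isCyclic_or_quaternion_two hF _ (S.2.map H.subtype) with h | ⟨k, hk, ⟨f⟩⟩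
  · exfalso
    have h2 : Fact (Nat.Prime 2) := ⟨Nat.prime_two⟩
    by_cases hev : 2 ∣ Nat.card H
    · have hmin : (Nat.card H).minFac = 2 := (Nat.minFac_eq_two_iff _).2 hev
      have hS : IsCyclic (S : Subgroup H) := isCyclic_of_surjective _ e.symm.surjective
      have hcomp := IsCyclic.isComplement' hmin hS
      generalize hM : (MonoidHom.transferSylow S (hS.normalizer_le_centralizer hmin)).ker = M
        at hcomp
      have hMn : M.Normal := hM ▸ MonoidHom.normal_ker _
      have hodd : Odd (Nat.card (M.map H.subtype)) := by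
        rw [Subgroup.card_map_of_injective H.subtype_injective, ← hcomp.index_eq_card,
          Nat.odd_iff, ← Nat.two_dvd_ne_zero]
        exact S.not_dvd_index
      have hsub := subsingleton_sylow_of_odd p (M.map H.subtype) hodd
      have e' : M ≃* M.map H.subtype := M.equivMapOfInjective _ H.subtype_injective
      have hle : ∀ P : Sylow p H, (P : Subgroup H) ≤ M := by
        intro P x hx
        have hco : Nat.Coprime (orderOf x) (Nat.card (S : Subgroup H)) := by
          obtain ⟨u, hu⟩ := P.2.exists_card_eq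
          obtain ⟨v, hv⟩ := S.2.exists_card_eq
          apply Nat.Coprime.coprime_dvd_left (by
            simpa using (orderOf_dvd_natCard (⟨x, hx⟩ : (P : Subgroup H))))
          rw [hu, hv]
          exact Nat.Coprime.pow _ _ ((Nat.coprime_primes hp.out Nat.prime_two).2 hp2)
        rw [← hM, MonoidHom.mem_ker, ← orderOf_eq_one_iff]
        exact Nat.eq_one_of_dvd_coprimes hco (orderOf_map_dvd _ x) (orderOf_dvd_natCard _)
      have : Subsingleton (Sylow p M) := by
        refine ⟨fun A B => Sylow.ext ?_⟩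
        have h : (A : Subgroup M).map e'.toMonoidHom = (B : Subgroup M).map e'.toMonoidHom :=
          congrArg Sylow.toSubgroup (Subsingleton.elim (A.mapSurjective (f := e'.toMonoidHom) e'.surjective)
            (B.mapSurjective (f := e'.toMonoidHom) e'.surjective) :)
        exact Subgroup.map_injective e'.injective h
      have : Subsingleton (Sylow p H) :=
        ⟨fun P Q => Sylow.subtype_injective (hP := hle P) (hQ := hle Q) (Subsingleton.elim _ _)⟩
      rw [Nat.card_of_subsingleton (Classical.arbitrary (Sylow p H))] at hH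
      omega
    · have := subsingleton_sylow_of_odd p H (Nat.odd_iff.2 (Nat.two_dvd_ne_zero.1 hev))
      rw [Nat.card_of_subsingleton (Classical.arbitrary (Sylow p H))] at hH
      omega
  · exact ⟨k, hk, ⟨e.trans f⟩⟩

/-- For `q ≡ 3, 5 (mod 8)` the Sylow 2-subgroups of `PSL(2,q)` are Klein four groups. -/
theorem isKleinFour_sylow_PSL_two [Fintype F] (hq : Fintype.card F % 8 = 3 ∨ Fintype.card F % 8 = 5)
    (P : Sylow 2 (Matrix.ProjectiveSpecialLinearGroup (Fin 2) F)) :
    IsKleinFour (P : Subgroup (Matrix.ProjectiveSpecialLinearGroup (Fin 2) F)) := by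
  have h2 : Fact (Nat.Prime 2) := ⟨Nat.prime_two⟩
  have hF : Odd (Fintype.card F) := by rw [Nat.odd_iff]; omega
  obtain ⟨S⟩ : Nonempty (Sylow 2 (Matrix.SpecialLinearGroup (Fin 2) F)) := inferInstance
  obtain ⟨r, hr, hrodd⟩ : ∃ r, Fintype.card F * (Fintype.card F ^ 2 - 1) = 2 ^ 3 * r ∧ ¬ 2 ∣ r := by
    obtain ⟨t, ht⟩ : ∃ t, Fintype.card F = 8 * t + 3 ∨ Fintype.card F = 8 * t + 5 :=
      ⟨Fintype.card F / 8, by omega⟩
    rcases ht with ht | ht <;> rw [ht]
    · refine ⟨(8 * t + 3) * ((4 * t + 1) * (2 * t + 1)), ?_, ?_⟩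
      · have : (8 * t + 3) ^ 2 = 8 * ((4 * t + 1) * (2 * t + 1)) + 1 := by ring
        rw [this, Nat.add_sub_cancel]; ring
      · rw [Nat.Prime.dvd_mul Nat.prime_two, Nat.Prime.dvd_mul Nat.prime_two]; omega
    · refine ⟨(8 * t + 5) * ((2 * t + 1) * (4 * t + 3)), ?_, ?_⟩
      · have : (8 * t + 5) ^ 2 = 8 * ((2 * t + 1) * (4 * t + 3)) + 1 := by ring
        rw [this, Nat.add_sub_cancel]; ring
      · rw [Nat.Prime.dvd_mul Nat.prime_two, Nat.Prime.dvd_mul Nat.prime_two]; omega
  have hScard : Nat.card (S : Subgroup SL(2, F)) = 2 ^ 3 :=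
    card_sylow_of_card_eq 2 (by rw [card_SL_two, hr]) hrodd S
  have hPcard : Nat.card (P : Subgroup (Matrix.ProjectiveSpecialLinearGroup (Fin 2) F)) = 4 := by
    refine card_sylow_of_card_eq 2 (k := 2) ?_ hrodd P
    have := card_PSL_two_odd (F := F) hF
    rw [hr] at this
    omega
  obtain ⟨m, hm, ⟨f⟩⟩ := sylow_two_quaternion hF S
  have hm1 : m = 1 := by
    have h := Nat.card_congr f.toEquiv
    rw [hScard, Nat.card_eq_fintype_card, QuaternionGroup.card] at h
    have : 2 ^ m = 2 ^ 1 := by omega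
    exact Nat.pow_right_injective le_rfl this
  subst hm1
  let P' := S.mapSurjective (QuotientGroup.mk'_surjective
    (Subgroup.center (Matrix.SpecialLinearGroup (Fin 2) F)))
  have hexp : ∀ x : (P' : Subgroup (Matrix.ProjectiveSpecialLinearGroup (Fin 2) F)),
      x ^ 2 = 1 := by
    rintro ⟨x, hx⟩
    rw [Sylow.coe_mapSurjective] at hx
    obtain ⟨u, hu, rfl⟩ := hx
    apply Subtype.ext
    change (QuotientGroup.mk' _ u) ^ 2 = 1
    rw [← map_pow, QuotientGroup.mk'_apply, QuotientGroup.eq_one_iff]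
    have h4 : ∀ q : QuaternionGroup (2 ^ 1), q ^ 2 = 1 ∨ (q ^ 2) ^ 2 = 1 ∧ q ^ 2 ≠ 1 := by
      decide +kernel
    rcases h4 (f ⟨u, hu⟩) with h | ⟨h, hne⟩
    · have : (u ^ 2 : SL(2, F)) = 1 :=
        congrArg Subtype.val (f.injective (a₁ := ⟨u, hu⟩ ^ 2) (a₂ := 1)
          (by rw [map_pow, h, map_one]))
      rw [this]; exact Subgroup.one_mem _
    · have h' : ((u ^ 2) ^ 2 : SL(2, F)) = 1 :=
        congrArg Subtype.val (f.injective (a₁ := (⟨u, hu⟩ ^ 2) ^ 2) (a₂ := 1)
          (by rw [map_pow, map_pow, h, map_one]))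
      have hne' : (u ^ 2 : SL(2, F)) ≠ 1 := fun e => hne (by
        rw [← map_pow, ← map_one f]; exact congrArg f (Subtype.ext e))
      rw [eq_neg_one_of_sq hF _ hne' h', Subgroup.mem_center_iff]
      intro g
      rw [mul_neg, mul_one, neg_mul, one_mul]
  have hexpP : ∀ x : (P : Subgroup (Matrix.ProjectiveSpecialLinearGroup (Fin 2) F)), x ^ 2 = 1 :=
    fun x => (Sylow.equiv P P').injective (by rw [map_pow, map_one, hexp])
  refine ⟨hPcard, ?_⟩
  refine Nat.dvd_antisymm (Monoid.exponent_dvd_of_forall_pow_eq_one hexpP) ?_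
  have : Nontrivial (P : Subgroup (Matrix.ProjectiveSpecialLinearGroup (Fin 2) F)) :=
    Finite.one_lt_card_iff_nontrivial.1 (by rw [hPcard]; norm_num)
  obtain ⟨x, hx⟩ := exists_ne (1 : (P : Subgroup (Matrix.ProjectiveSpecialLinearGroup (Fin 2) F)))
  have h := Monoid.order_dvd_exponent x
  rwa [orderOf_eq_prime (hexpP x) hx] at h

end CfsgLib.Linear
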