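import Cfsg.Agent.Linear.Perfect

/-!
# Sylow subgroups in the defining characteristic

The order of a Sylow `p`-subgroup of `GL_n(q)`, and the root group, Borel subgroup and Sylow
normalisers of `GL_2(q)` and `SL_2(q)`.
-/

set_option autoImplicit false

namespace CfsgLib.Linear

open Matrix
open scoped MatrixGroups

variable {F : Type*} [Field F]

section Prime

variable [Fintype F] (p : ℕ) [hp : Fact p.Prime] [CharP F p]

omit hp in
theorem card_eq_prime_pow : ∃ a : ℕ, 0 < a ∧ Fintype.card F = p ^ a := by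
  obtain ⟨a, _, h⟩ := FiniteField.card F p
  exact ⟨a, a.pos, h⟩

omit hp in
theorem prime_dvd_card : p ∣ Fintype.card F := by
  obtain ⟨a, ha, h⟩ := card_eq_prime_pow (F := F) p
  exact h ▸ dvd_pow_self p ha.ne'

theorem not_dvd_pow_sub_one {i : ℕ} (hi : i ≠ 0) : ¬ p ∣ Fintype.card F ^ i - 1 := by
  intro h
  have h1 : p ∣ Fintype.card F ^ i := dvd_pow (prime_dvd_card p) hi
  have h2 : 1 ≤ Fintype.card F ^ i := Nat.one_le_pow _ _ Fintype.card_pos
  have h3 : p ∣ 1 := by
    have := Nat.dvd_sub h1 h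
    rwa [Nat.sub_sub_self h2] at this
  exact hp.out.not_dvd_one h3

theorem not_dvd_prod_pow_sub_one (n : ℕ) :
    ¬ p ∣ ∏ i ∈ Finset.range n, (Fintype.card F ^ (i + 1) - 1) := by
  intro h
  obtain ⟨i, _, hi⟩ := (Nat.Prime.prime hp.out).dvd_finsetProd_iff _ |>.1 h
  exact not_dvd_pow_sub_one p (Nat.succ_ne_zero i) hi

omit [CharP F p] in
/-- In a group of order `p^k * r` with `p ∤ r` the Sylow subgroups have order `p^k`. -/
theorem card_sylow_of_card_eq {G : Type*} [Group G] [Finite G] {k r : ℕ}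
    (h : Nat.card G = p ^ k * r) (hr : ¬ p ∣ r) (P : Sylow p G) : Nat.card P = p ^ k := by
  rw [P.card_eq_multiplicity, h]
  have hr0 : r ≠ 0 := fun h0 => hr (h0 ▸ dvd_zero p)
  rw [Nat.factorization_mul (pow_ne_zero _ hp.out.ne_zero) hr0]
  simp [Nat.factorization_eq_zero_of_not_dvd hr, hp.out]

/-- A Sylow `p`-subgroup of `GL_n(q)` has order `q^(n(n-1)/2)`. -/
theorem card_sylow_GL {n : Type*} [Fintype n] [DecidableEq n] (P : Sylow p (GL n F)) :
    Nat.card P = Fintype.card F ^ (Fintype.card n * (Fintype.card n - 1) / 2) := by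
  obtain ⟨a, -, hq⟩ := card_eq_prime_pow (F := F) p
  have h : Nat.card (GL n F) = p ^ (a * (Fintype.card n * (Fintype.card n - 1) / 2)) *
      ∏ i ∈ Finset.range (Fintype.card n), (Fintype.card F ^ (i + 1) - 1) := by
    rw [card_GL, prod_pow_sub_pow, pow_mul, ← hq]
  rw [card_sylow_of_card_eq p h (not_dvd_prod_pow_sub_one p _) P, pow_mul, ← hq]

end Prime

section Borel

/-- The upper unitriangular element of `SL_2`. -/
def upperUni (x : F) : Matrix.SpecialLinearGroup (Fin 2) F :=
  Matrix.SpecialLinearGroup.transvection zero_ne_one x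

/-- The lower unitriangular element of `SL_2`. -/
def lowerUni (x : F) : Matrix.SpecialLinearGroup (Fin 2) F :=
  Matrix.SpecialLinearGroup.transvection one_ne_zero x

theorem upperUni_val (x : F) : (upperUni x).1 = !![1, x; 0, 1] := by
  ext i j
  fin_cases i <;> fin_cases j <;>
    simp [upperUni, Matrix.SpecialLinearGroup.transvection_coe]

theorem lowerUni_val (x : F) : (lowerUni x).1 = !![1, 0; x, 1] := by
  ext i j
  fin_cases i <;> fin_cases j <;>
    simp [lowerUni, Matrix.SpecialLinearGroup.transvection_coe]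

/-- The root homomorphism `x ↦ [1, x; 0, 1]`. -/
def upperHom : Multiplicative F →* Matrix.SpecialLinearGroup (Fin 2) F where
  toFun x := upperUni x.toAdd
  map_one' := Matrix.SpecialLinearGroup.transvection_coeff_zero _
  map_mul' _ _ := Matrix.SpecialLinearGroup.transvection_add _ _ _

/-- The upper unitriangular subgroup of `SL_2`. -/
def upperSL : Subgroup (Matrix.SpecialLinearGroup (Fin 2) F) := (upperHom (F := F)).range

/-- The upper unitriangular subgroup of `GL_2`. -/
def upperGL : Subgroup (GL (Fin 2) F) :=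
  (upperSL (F := F)).map Matrix.SpecialLinearGroup.toGL

theorem upperUni_mem (x : F) : upperUni x ∈ upperSL (F := F) := ⟨Multiplicative.ofAdd x, rfl⟩

theorem mem_upperSL {g : Matrix.SpecialLinearGroup (Fin 2) F} :
    g ∈ upperSL (F := F) ↔ ∃ x, upperUni x = g :=
  ⟨fun ⟨x, hx⟩ => ⟨x.toAdd, hx⟩, fun ⟨_, hx⟩ => hx ▸ upperUni_mem _⟩

theorem mem_upperGL {g : GL (Fin 2) F} :
    g ∈ upperGL (F := F) ↔ ∃ x, Matrix.SpecialLinearGroup.toGL (upperUni x) = g := by
  rw [upperGL, Subgroup.mem_map]
  exact ⟨fun ⟨a, ha, h⟩ => by obtain ⟨x, rfl⟩ := mem_upperSL.1 ha; exact ⟨x, h⟩,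
    fun ⟨x, h⟩ => ⟨_, upperUni_mem x, h⟩⟩

theorem upperUni_injective : Function.Injective (upperUni (F := F)) := by
  intro x y h
  have := congrArg (fun g : Matrix.SpecialLinearGroup (Fin 2) F => g.1 0 1) h
  simpa [upperUni_val] using this

theorem card_upperSL : Nat.card (upperSL (F := F)) = Nat.card F := by
  have hinj : Function.Injective (upperHom (F := F)) :=
    fun x y h => Multiplicative.toAdd.injective (upperUni_injective h)
  exact (Nat.card_congr (MonoidHom.ofInjective hinj).toEquiv).symm.trans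
    (Nat.card_congr Multiplicative.toAdd)

theorem card_upperGL : Nat.card (upperGL (F := F)) = Nat.card F := by
  rw [upperGL, Subgroup.card_map_of_injective Matrix.SpecialLinearGroup.toGL_injective,
    card_upperSL]

/-- An element moving a non-trivial root element into the root group is upper triangular. -/
theorem apply_one_zero_of_conj_mem {g : GL (Fin 2) F} {x : F} (hx : x ≠ 0)
    (h : g * Matrix.SpecialLinearGroup.toGL (upperUni x) * g⁻¹ ∈ upperGL (F := F)) :
    g.1 1 0 = 0 := by
  obtain ⟨y, hy⟩ := mem_upperGL.1 h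
  rw [eq_mul_inv_iff_mul_eq] at hy
  have := congrArg (fun m : GL (Fin 2) F => m.1 1 1) hy
  simp [upperUni_val, Matrix.mul_apply, Fin.sum_univ_two, hx] at this
  exact this

theorem conj_upperUni {g : GL (Fin 2) F} (hg : g.1 1 0 = 0) (x : F) :
    g * Matrix.SpecialLinearGroup.toGL (upperUni x) * g⁻¹ =
      Matrix.SpecialLinearGroup.toGL (upperUni (g.1 0 0 * x / g.1 1 1)) := by
  have hd : g.1 1 1 ≠ 0 := by
    intro h
    have hu := (Matrix.isUnit_iff_isUnit_det g.1).1 g.isUnit
    rw [Matrix.det_fin_two, h, hg] at hu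
    simp at hu
  rw [mul_inv_eq_iff_eq_mul]
  apply Units.ext
  ext i j
  fin_cases i <;> fin_cases j <;>
    simp [upperUni_val, Matrix.mul_apply, Fin.sum_univ_two, hg] <;> field_simp <;> ring

/-- The normaliser of the root group in `GL_2` is the upper triangular group. -/
theorem mem_normalizer_upperGL {g : GL (Fin 2) F} :
    g ∈ Subgroup.normalizer ((upperGL (F := F) : Subgroup (GL (Fin 2) F)) : Set (GL (Fin 2) F)) ↔
      g.1 1 0 = 0 := by
  constructor
  · intro h
    exact apply_one_zero_of_conj_mem one_ne_zero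
      ((Subgroup.mem_normalizer_iff.1 h _).1 (mem_upperGL.2 ⟨1, rfl⟩))
  · intro hg
    rw [Subgroup.mem_normalizer_iff]
    intro u
    constructor
    · intro hu
      obtain ⟨x, rfl⟩ := mem_upperGL.1 hu
      exact mem_upperGL.2 ⟨_, (conj_upperUni hg x).symm⟩
    · intro hu
      obtain ⟨x, hx⟩ := mem_upperGL.1 hu
      have hd : g.1 0 0 ≠ 0 ∧ g.1 1 1 ≠ 0 := by
        have hu := (Matrix.isUnit_iff_isUnit_det g.1).1 g.isUnit
        rw [Matrix.det_fin_two, hg, mul_zero, sub_zero, isUnit_iff_ne_zero, mul_ne_zero_iff] at hu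
        exact hu
      refine mem_upperGL.2 ⟨g.1 1 1 * x / g.1 0 0, ?_⟩
      have h2 : g.1 0 0 * (g.1 1 1 * x / g.1 0 0) / g.1 1 1 = x := by
        field_simp [hd.1, hd.2]
      have h3 := conj_upperUni hg (g.1 1 1 * x / g.1 0 0)
      rw [h2, hx] at h3
      exact mul_left_cancel (mul_right_cancel h3)

/-- The centraliser of a non-trivial root element in `GL_2`. -/
theorem mem_centralizer_upperUni {g : GL (Fin 2) F} {x : F} (hx : x ≠ 0) :
    g ∈ Subgroup.centralizer
        ({Matrix.SpecialLinearGroup.toGL (upperUni x)} : Set (GL (Fin 2) F)) ↔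
      g.1 1 0 = 0 ∧ g.1 0 0 = g.1 1 1 := by
  rw [Subgroup.mem_centralizer_singleton_iff]
  constructor
  · intro h
    have h1 : g * Matrix.SpecialLinearGroup.toGL (upperUni x) * g⁻¹ =
        Matrix.SpecialLinearGroup.toGL (upperUni x) := mul_inv_eq_iff_eq_mul.2 h
    have hg := apply_one_zero_of_conj_mem hx (h1 ▸ mem_upperGL.2 ⟨x, rfl⟩)
    refine ⟨hg, ?_⟩
    rw [conj_upperUni hg] at h1
    have h2 := upperUni_injective (Matrix.SpecialLinearGroup.toGL_injective h1)
    have hd : g.1 1 1 ≠ 0 := by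
      intro h0
      simp [h0, eq_comm, hx] at h2
    rw [div_eq_iff hd, mul_comm x] at h2
    exact mul_right_cancel₀ hx h2
  · rintro ⟨hg, had⟩
    apply Units.ext
    ext i j
    fin_cases i <;> fin_cases j <;>
      simp [upperUni_val, Matrix.mul_apply, Fin.sum_univ_two, hg, had] <;> ring

/-- Upper triangular invertible `2 × 2` matrices. -/
def borelEquiv : {g : GL (Fin 2) F // g.1 1 0 = 0} ≃ Fˣ × Fˣ × F where
  toFun g :=
    have h : g.1.1 0 0 * g.1.1 1 1 ≠ 0 := by
      have hu := (Matrix.isUnit_iff_isUnit_det g.1.1).1 g.1.isUnit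
      rw [Matrix.det_fin_two, g.2, mul_zero, sub_zero, isUnit_iff_ne_zero] at hu
      exact hu
    (Units.mk0 _ (left_ne_zero_of_mul h), Units.mk0 _ (right_ne_zero_of_mul h), g.1.1 0 1)
  invFun t :=
    ⟨Matrix.GeneralLinearGroup.mkOfDetNeZero !![(t.1 : F), t.2.2; 0, t.2.1]
      (by simp [Matrix.det_fin_two]), by simp⟩
  left_inv g := by
    apply Subtype.ext
    apply Units.ext
    ext i j
    fin_cases i <;> fin_cases j <;> simp [g.2]
  right_inv t := by simp

/-- The upper triangular matrices with equal diagonal entries. -/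
def centEquiv : {g : GL (Fin 2) F // g.1 1 0 = 0 ∧ g.1 0 0 = g.1 1 1} ≃ Fˣ × F where
  toFun g := ((borelEquiv ⟨g.1, g.2.1⟩).1, g.1.1 0 1)
  invFun t :=
    ⟨(borelEquiv.symm (t.1, t.1, t.2)).1, (borelEquiv.symm (t.1, t.1, t.2)).2, by simp [borelEquiv]⟩
  left_inv g := by
    apply Subtype.ext
    apply Units.ext
    ext i j
    fin_cases i <;> fin_cases j <;> simp [borelEquiv, g.2.1, g.2.2]
  right_inv t := by simp [borelEquiv]

variable [Fintype F] (p : ℕ) [hp : Fact p.Prime] [CharP F p]

omit hp in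
theorem isPGroup_upperSL : IsPGroup p (upperSL (F := F)) := by
  obtain ⟨a, -, hq⟩ := card_eq_prime_pow (F := F) p
  exact IsPGroup.of_card (n := a) (by rw [card_upperSL, Nat.card_eq_fintype_card, hq])

theorem index_upperSL : (upperSL (F := F)).index = Fintype.card F ^ 2 - 1 := by
  have h := Subgroup.card_mul_index (upperSL (F := F))
  rw [card_upperSL, card_SL_two, Nat.card_eq_fintype_card] at h
  exact Nat.eq_of_mul_eq_mul_left Fintype.card_pos h

/-- The root group as a Sylow subgroup of `SL_2`. -/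
noncomputable def upperSylowSL : Sylow p (Matrix.SpecialLinearGroup (Fin 2) F) :=
  (isPGroup_upperSL p).toSylow (index_upperSL (F := F) ▸ not_dvd_pow_sub_one p two_ne_zero)

theorem index_upperGL :
    (upperGL (F := F)).index = (Fintype.card F - 1) * (Fintype.card F ^ 2 - 1) := by
  have h := Subgroup.card_mul_index (upperGL (F := F))
  rw [card_upperGL, card_GL_two, Nat.card_eq_fintype_card, mul_assoc] at h
  exact Nat.eq_of_mul_eq_mul_left Fintype.card_pos h

/-- The root group as a Sylow subgroup of `GL_2`. -/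
noncomputable def upperSylowGL : Sylow p (GL (Fin 2) F) :=
  IsPGroup.toSylow (P := upperGL (F := F))
    ((isPGroup_upperSL p).map _) (by
      rw [index_upperGL, hp.out.dvd_mul, not_or]
      exact ⟨by simpa using not_dvd_pow_sub_one (F := F) p one_ne_zero,
        not_dvd_pow_sub_one p two_ne_zero⟩)

theorem coe_upperSylowSL :
    ((upperSylowSL (F := F) p) : Subgroup (Matrix.SpecialLinearGroup (Fin 2) F)) = upperSL := rfl

theorem coe_upperSylowGL :
    ((upperSylowGL (F := F) p) : Subgroup (GL (Fin 2) F)) = upperGL := rfl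

omit hp in
theorem card_normalizer_upperGL :
    Nat.card (Subgroup.normalizer ((upperGL (F := F) : Subgroup (GL (Fin 2) F)) :
      Set (GL (Fin 2) F))) = Fintype.card F * (Fintype.card F - 1) ^ 2 := by
  rw [Nat.card_congr ((Equiv.subtypeEquivRight fun g => mem_normalizer_upperGL).trans borelEquiv),
    Nat.card_prod, Nat.card_prod, card_units, Nat.card_eq_fintype_card]
  ring

/-- The Sylow normalisers of `GL_2(q)` have order `q (q-1)^2`. -/
theorem card_normalizer_sylow_GL_two (P : Sylow p (GL (Fin 2) F)) :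
    Nat.card (Subgroup.normalizer ((P : Subgroup (GL (Fin 2) F)) : Set (GL (Fin 2) F))) =
      Fintype.card F * (Fintype.card F - 1) ^ 2 := by
  rw [← card_normalizer_upperGL]
  have h1 := Subgroup.card_mul_index
    (Subgroup.normalizer ((P : Subgroup (GL (Fin 2) F)) : Set (GL (Fin 2) F)))
  have h2 := Subgroup.card_mul_index
    (Subgroup.normalizer ((upperGL (F := F) : Subgroup (GL (Fin 2) F)) : Set (GL (Fin 2) F)))
  have e : (Subgroup.normalizer ((P : Subgroup (GL (Fin 2) F)) : Set (GL (Fin 2) F))).index =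
      (Subgroup.normalizer
        ((upperGL (F := F) : Subgroup (GL (Fin 2) F)) : Set (GL (Fin 2) F))).index :=
    P.card_eq_index_normalizer.symm.trans (upperSylowGL p).card_eq_index_normalizer
  rw [e, ← h2] at h1
  exact Nat.eq_of_mul_eq_mul_right (Nat.pos_of_ne_zero Subgroup.index_ne_zero_of_finite) h1

/-- `GL_2(q)` has `q + 1` Sylow `p`-subgroups. -/
theorem card_sylow_GL_two : Nat.card (Sylow p (GL (Fin 2) F)) = Fintype.card F + 1 := by
  have h := Subgroup.card_mul_index (Subgroup.normalizer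
    (((upperSylowGL (F := F) p) : Subgroup (GL (Fin 2) F)) : Set (GL (Fin 2) F)))
  have e : Nat.card (Sylow p (GL (Fin 2) F)) = (Subgroup.normalizer
    (((upperSylowGL (F := F) p) : Subgroup (GL (Fin 2) F)) : Set (GL (Fin 2) F))).index :=
    (upperSylowGL p).card_eq_index_normalizer
  rw [card_normalizer_sylow_GL_two, card_GL_two, ← e] at h
  obtain ⟨k, hk⟩ : ∃ k, Fintype.card F = k + 2 :=
    ⟨Fintype.card F - 2, by have := Fintype.one_lt_card (α := F); omega⟩
  rw [hk] at h ⊢
  have e1 : k + 2 - 1 = k + 1 := rfl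
  have e2 : (k + 2) ^ 2 - 1 = (k + 1) * (k + 3) := by
    have : (k + 2) ^ 2 = (k + 1) * (k + 3) + 1 := by ring
    omega
  rw [e1, e2] at h
  exact Nat.eq_of_mul_eq_mul_left (show 0 < (k + 2) * (k + 1) ^ 2 by positivity)
    (h.trans (by ring))

/-- Distinct Sylow `p`-subgroups of `GL_2(q)` meet trivially. -/
theorem sylow_GL_two_inf_eq_bot (P Q : Sylow p (GL (Fin 2) F)) (h : P ≠ Q) :
    (P : Subgroup (GL (Fin 2) F)) ⊓ (Q : Subgroup (GL (Fin 2) F)) = ⊥ := by
  by_contra hne
  obtain ⟨⟨a, haP, haQ⟩, ha'⟩ := Subgroup.ne_bot_iff_exists_ne_one.1 hne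
  have ha : a ≠ 1 := fun e => ha' (Subtype.ext e)
  obtain ⟨g, rfl⟩ := MulAction.exists_smul_eq (GL (Fin 2) F) (upperSylowGL p) P
  obtain ⟨k, rfl⟩ := MulAction.exists_smul_eq (GL (Fin 2) F) (upperSylowGL p) Q
  obtain ⟨u, hu, rfl⟩ : ∃ u ∈ upperGL (F := F), g * u * g⁻¹ = a := by
    obtain ⟨u, hu, hu'⟩ := haP
    exact ⟨u, hu, hu'⟩
  obtain ⟨v, hv, hv'⟩ : ∃ v ∈ upperGL (F := F), k * v * k⁻¹ = g * u * g⁻¹ := by
    obtain ⟨v, hv, hv'⟩ := haQ
    exact ⟨v, hv, hv'⟩
  obtain ⟨x, rfl⟩ := mem_upperGL.1 hu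
  have hx : x ≠ 0 := by
    rintro rfl
    apply ha
    simp [upperUni]
  have hn : k⁻¹ * g ∈ Subgroup.normalizer
      ((upperGL (F := F) : Subgroup (GL (Fin 2) F)) : Set (GL (Fin 2) F)) := by
    rw [mem_normalizer_upperGL]
    apply apply_one_zero_of_conj_mem hx
    convert hv using 1
    rw [_root_.mul_inv_rev, inv_inv, ← mul_left_cancel_iff (a := k), ← mul_right_cancel_iff (a := k⁻¹),
      hv']
    group
  apply h
  have := Sylow.smul_eq_iff_mem_normalizer.2
    (show k⁻¹ * g ∈ Subgroup.normalizer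
      (((upperSylowGL (F := F) p) : Subgroup (GL (Fin 2) F)) : Set (GL (Fin 2) F)) from hn)
  rwa [mul_smul, inv_smul_eq_iff] at this

/-- The centraliser of a non-trivial `p`-element of a Sylow subgroup of `GL_2(q)`. -/
theorem card_centralizer_of_mem_sylow_GL_two (P : Sylow p (GL (Fin 2) F)) (a : GL (Fin 2) F)
    (ha : a ∈ P) (ha1 : a ≠ 1) :
    Nat.card (Subgroup.centralizer ({a} : Set (GL (Fin 2) F))) =
      Fintype.card F * (Fintype.card F - 1) := by
  obtain ⟨g, rfl⟩ := MulAction.exists_smul_eq (GL (Fin 2) F) (upperSylowGL p) P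
  obtain ⟨u, hu, hua⟩ := ha
  change g * u * g⁻¹ = a at hua
  subst hua
  obtain ⟨x, rfl⟩ := mem_upperGL.1 hu
  have hx : x ≠ 0 := by
    rintro rfl
    simp [upperUni] at ha1
  have e : Subgroup.centralizer ({g * Matrix.SpecialLinearGroup.toGL (upperUni x) * g⁻¹} :
        Set (GL (Fin 2) F)) =
      (Subgroup.centralizer ({Matrix.SpecialLinearGroup.toGL (upperUni x)} :
        Set (GL (Fin 2) F))).map (MulAut.conj g).toMonoidHom := by
    ext c
    rw [Subgroup.mem_map_equiv, Subgroup.mem_centralizer_singleton_iff,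
      Subgroup.mem_centralizer_singleton_iff, MulAut.conj_symm_apply]
    constructor <;> intro hc
    · rw [← mul_left_cancel_iff (a := g), ← mul_right_cancel_iff (a := g⁻¹)]
      simpa [mul_assoc] using hc
    · have := congrArg (fun t => g * t * g⁻¹) hc
      simpa [mul_assoc] using this
  rw [e, Subgroup.card_map_of_injective (MulAut.conj g).injective,
    Nat.card_congr ((Equiv.subtypeEquivRight fun g => mem_centralizer_upperUni hx).trans centEquiv),
    Nat.card_prod, card_units, Nat.card_eq_fintype_card, mul_comm]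

/-- Two distinct Sylow `p`-subgroups of `SL_2(q)` generate it. -/
theorem sylow_SL_two_sup_eq_top (P Q : Sylow p (Matrix.SpecialLinearGroup (Fin 2) F)) (h : P ≠ Q) :
    (P : Subgroup (Matrix.SpecialLinearGroup (Fin 2) F)) ⊔
      (Q : Subgroup (Matrix.SpecialLinearGroup (Fin 2) F)) = ⊤ := by
  obtain ⟨k, rfl⟩ := MulAction.exists_smul_eq (Matrix.SpecialLinearGroup (Fin 2) F)
    (upperSylowSL p) Q
  obtain ⟨g, rfl⟩ := MulAction.exists_smul_eq (Matrix.SpecialLinearGroup (Fin 2) F)
    (k • upperSylowSL p) P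
  rw [smul_smul] at h ⊢
  obtain ⟨g', hg'⟩ : ∃ g', k * g' = g * k := ⟨k⁻¹ * g * k, by group⟩
  rw [← hg', mul_smul] at h ⊢
  clear hg' g
  rename' g' => g
  have hc : g.1 1 0 ≠ 0 := by
    intro h0
    apply h
    congr 1
    rw [Sylow.smul_eq_iff_mem_normalizer]
    change g ∈ Subgroup.normalizer ((upperSL (F := F) : Subgroup _) : Set _)
    rw [Subgroup.mem_normalizer_iff]
    have hn := Subgroup.mem_normalizer_iff.1
      ((mem_normalizer_upperGL (g := Matrix.SpecialLinearGroup.toGL g)).2 h0)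
    intro u
    have := hn (Matrix.SpecialLinearGroup.toGL u)
    rw [← map_inv, ← map_mul, ← map_mul, upperGL,
      Subgroup.mem_map_iff_mem Matrix.SpecialLinearGroup.toGL_injective,
      Subgroup.mem_map_iff_mem Matrix.SpecialLinearGroup.toGL_injective] at this
    exact this
  suffices hH : ∀ H : Subgroup (Matrix.SpecialLinearGroup (Fin 2) F),
      (∀ x, upperUni x ∈ H) → (∀ x, g * upperUni x * g⁻¹ ∈ H) → H = ⊤ by
    rw [Sylow.coe_subgroup_smul, Sylow.coe_subgroup_smul, Sylow.coe_subgroup_smul,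
      coe_upperSylowSL, ← Subgroup.smul_sup, hH _ (fun x => Subgroup.mem_sup_right (upperUni_mem x))
        (fun x => Subgroup.mem_sup_left ?_)]
    · exact Subgroup.map_top_of_surjective _ (MulAut.conj k).surjective
    · exact ⟨upperUni x, upperUni_mem x, rfl⟩
  intro H hu hg
  obtain ⟨h', hh0, hh⟩ : ∃ h' : Matrix.SpecialLinearGroup (Fin 2) F,
      h'.1 0 0 = 0 ∧ ∀ x, h' * upperUni x * h'⁻¹ ∈ H := by
    refine ⟨upperUni (-(g.1 0 0) / g.1 1 0) * g, ?_, fun x => ?_⟩
    · simp [upperUni_val, Matrix.mul_apply, Fin.sum_univ_two]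
      field_simp
      ring
    · have := H.mul_mem (H.mul_mem (hu (-(g.1 0 0) / g.1 1 0)) (hg x))
        (H.inv_mem (hu (-(g.1 0 0) / g.1 1 0)))
      convert this using 1
      group
  have hd : h'.1 0 0 * h'.1 1 1 - h'.1 0 1 * h'.1 1 0 = 1 := by
    rw [← Matrix.det_fin_two]; exact h'.2
  rw [hh0] at hd
  have hc' : h'.1 1 0 ≠ 0 := by
    intro h0
    simp [h0] at hd
  have hb : h'.1 0 1 = -(h'.1 1 0)⁻¹ := by
    field_simp
    linear_combination (-1 : F) * hd
  refine sl_eq_top_of_transvections fun i j hij c => ?_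
  fin_cases i <;> fin_cases j
  · exact absurd rfl hij
  · exact hu c
  · have := hh (-c / (h'.1 1 0) ^ 2)
    convert this using 1
    apply Subtype.ext
    ext a b
    fin_cases a <;> fin_cases b <;>
      simp [Matrix.SpecialLinearGroup.transvection_coe, upperUni_val, Matrix.mul_apply,
        Fin.sum_univ_two, Matrix.SpecialLinearGroup.coe_inv, Matrix.adjugate_fin_two, hh0, hb] <;>
      (try field_simp) <;> ring
  · exact absurd rfl hij

end Borel

end CfsgLib.Linear
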