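import Mathlib

/-!
# Computable models of the fields of order 4 and 9
-/

set_option autoImplicit false

namespace CfsgLib.Linear

/-- The field of order 4, `t^2 = 1 + t`. -/
abbrev GF4 : Type := QuadraticAlgebra (ZMod 2) 1 1

/-- The field of order 9, `t^2 = 1 + t`. -/
abbrev GF9 : Type := QuadraticAlgebra (ZMod 3) 1 1

instance fact_gf4 : Fact (∀ r : ZMod 2, r ^ 2 ≠ 1 + 1 * r) := ⟨by decide⟩

instance fact_gf9 : Fact (∀ r : ZMod 3, r ^ 2 ≠ 1 + 1 * r) := ⟨by decide⟩

instance fintype_gf4 : Fintype GF4 := Fintype.ofEquiv _ (QuadraticAlgebra.equivProd 1 1).symm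

instance fintype_gf9 : Fintype GF9 := Fintype.ofEquiv _ (QuadraticAlgebra.equivProd 1 1).symm

theorem card_gf4 : Fintype.card GF4 = 4 := rfl

theorem card_gf9 : Fintype.card GF9 = 9 := rfl

end CfsgLib.Linear
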