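import Cfsg.Agent.Linear.Basic

/-!
# The determinant on `PGL` and the quotient `PGL / PSL`
-/

set_option autoImplicit false

namespace CfsgLib.Linear

open Matrix

variable {n : Type*} [Fintype n] [DecidableEq n] {F : Type*} [Field F]

/-- The subgroup of `|n|`-th powers of units. -/
abbrev powersSubgroup (n : Type*) [Fintype n] (F : Type*) [Field F] : Subgroup Fˣ :=
  (powMonoidHom (Fintype.card n) : Fˣ →* Fˣ).range

/-- The determinant of a projective class, modulo `|n|`-th powers. -/
noncomputable def pglDet : Matrix.ProjGenLinGroup n F →* Fˣ ⧸ powersSubgroup n F :=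
  Matrix.ProjGenLinGroup.lift ((QuotientGroup.mk' _).comp Matrix.GeneralLinearGroup.det) (by
    ext u
    rw [MonoidHom.comp_apply, MonoidHom.comp_apply, QuotientGroup.mk'_apply, MonoidHom.one_apply,
      QuotientGroup.eq_one_iff]
    exact ⟨u, Units.ext (by simp)⟩)

theorem pglDet_mk (g : GL n F) :
    pglDet (Matrix.ProjGenLinGroup.mk g) = QuotientGroup.mk' _ (Matrix.GeneralLinearGroup.det g) :=
  rfl

theorem pglDet_surjective [Nonempty n] : Function.Surjective (pglDet (n := n) (F := F)) := by
  intro x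
  obtain ⟨u, rfl⟩ := QuotientGroup.mk'_surjective _ x
  obtain ⟨g, rfl⟩ := Matrix.GeneralLinearGroup.det_surjective (n := n) u
  exact ⟨_, pglDet_mk g⟩

theorem ker_pglDet :
    (pglDet (n := n) (F := F)).ker =
      (Matrix.ProjectiveSpecialLinearGroup.toPGL :
        Matrix.ProjectiveSpecialLinearGroup n F →* Matrix.ProjGenLinGroup n F).range := by
  ext x
  obtain ⟨g, rfl⟩ := Matrix.ProjGenLinGroup.mk_surjective x
  rw [MonoidHom.mem_ker, pglDet_mk, QuotientGroup.mk'_apply, QuotientGroup.eq_one_iff]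
  constructor
  · rintro ⟨c, hc⟩
    rw [powMonoidHom_apply] at hc
    obtain ⟨s, hs⟩ : g * Matrix.GeneralLinearGroup.scalar n c⁻¹ ∈
        (Matrix.SpecialLinearGroup.toGL :
          Matrix.SpecialLinearGroup n F →* GL n F).range := by
      rw [range_toGL, MonoidHom.mem_ker, map_mul, ← hc]
      ext
      simp
    refine ⟨(s : Matrix.ProjectiveSpecialLinearGroup n F), ?_⟩
    rw [Matrix.ProjectiveSpecialLinearGroup.toPGL_mk, hs, map_mul, Matrix.ProjGenLinGroup.mk_scalar,
      mul_one]
  · rintro ⟨s, hs⟩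
    obtain ⟨s, rfl⟩ := QuotientGroup.mk_surjective s
    rw [Matrix.ProjectiveSpecialLinearGroup.toPGL_mk, Matrix.ProjGenLinGroup.mk_eq_mk_iff] at hs
    obtain ⟨u, hu⟩ := hs
    refine ⟨u, ?_⟩
    have h1 := congrArg Matrix.GeneralLinearGroup.det hu
    rw [map_mul, show Matrix.GeneralLinearGroup.det (Matrix.SpecialLinearGroup.toGL s) = 1 from
      Units.ext s.2, one_mul] at h1
    rw [powMonoidHom_apply, ← h1]
    ext
    simp

/-- `PGL/PSL` is cyclic of order `gcd(n, q-1)`. -/
theorem exists_pgl_to_zmod [Fintype F] [Nonempty n] :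
    ∃ g : Matrix.ProjGenLinGroup n F →*
        Multiplicative (ZMod (Nat.gcd (Fintype.card n) (Fintype.card F - 1))),
      Function.Surjective g ∧ g.ker = (Matrix.ProjectiveSpecialLinearGroup.toPGL :
        Matrix.ProjectiveSpecialLinearGroup n F →* Matrix.ProjGenLinGroup n F).range := by
  have hcyc : IsCyclic (Fˣ ⧸ powersSubgroup n F) :=
    isCyclic_of_surjective _ (QuotientGroup.mk'_surjective _)
  have hcard : Nat.card (Fˣ ⧸ powersSubgroup n F) =
      Nat.gcd (Fintype.card n) (Fintype.card F - 1) := by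
    rw [← Subgroup.index_eq_card, Subgroup.index_range, IsCyclic.card_powMonoidHom_ker,
      card_units, Nat.gcd_comm]
  have e := zmodCyclicMulEquiv hcyc
  rw [hcard] at e
  refine ⟨e.symm.toMonoidHom.comp pglDet, e.symm.surjective.comp pglDet_surjective, ?_⟩
  rw [← ker_pglDet]
  exact MonoidHom.ker_mulEquiv_comp _ e.symm

end CfsgLib.Linear
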