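import Mathlib

/-!
# The action of `GL(2,F)`, `PGL(2,F)` and `SL(2,F)` on the projective line
-/

set_option autoImplicit false

open Matrix
open scoped MatrixGroups LinearAlgebra.Projectivization

namespace CfsgLib.Linear

variable {F : Type*} [Field F]

/-- The point `[x : y]`. -/
theorem vec2_ne_zero {x y : F} (h : x ≠ 0 ∨ y ≠ 0) : (![x, y] : Fin 2 → F) ≠ 0 := by
  intro h0
  rcases h with h | h
  · exact h (congrFun h0 0)
  · exact h (congrFun h0 1)

/-- The point `[1 : 0]`. -/
abbrev pInf (F : Type*) [Field F] : ℙ F (Fin 2 → F) :=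
  Projectivization.mk F ![1, 0] (vec2_ne_zero (Or.inl one_ne_zero))

/-- The point `[0 : 1]`. -/
abbrev pZero (F : Type*) [Field F] : ℙ F (Fin 2 → F) :=
  Projectivization.mk F ![0, 1] (vec2_ne_zero (Or.inr one_ne_zero))

/-- The point `[1 : 1]`. -/
abbrev pOne (F : Type*) [Field F] : ℙ F (Fin 2 → F) :=
  Projectivization.mk F ![1, 1] (vec2_ne_zero (Or.inl one_ne_zero))

/-- Three distinct points are the images of `[1:0]`, `[0:1]`, `[1:1]`. -/
theorem exists_gl_three (a b c : ℙ F (Fin 2 → F)) (hab : a ≠ b) (hac : a ≠ c) (hbc : b ≠ c) :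
    ∃ g : GL (Fin 2) F, g • pInf F = a ∧ g • pZero F = b ∧ g • pOne F = c := by
  induction a using Projectivization.ind with | _ u hu =>
  induction b using Projectivization.ind with | _ v hv =>
  induction c using Projectivization.ind with | _ w hw =>
  set D : F := u 0 * v 1 - u 1 * v 0 with hD
  have hD0 : D ≠ 0 := by
    intro h0
    apply hab
    rw [Projectivization.mk_eq_mk_iff']
    by_cases hv0 : v 0 = 0
    · have hv1 : v 1 ≠ 0 := fun h1 => hv (by ext i; fin_cases i <;> simpa)
      refine ⟨u 1 / v 1, ?_⟩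
      ext i
      fin_cases i
      · have h2 : u 0 * v 1 = 0 := by linear_combination h0 + u 1 * hv0
        have : u 0 = 0 := (mul_eq_zero.1 h2).resolve_right hv1
        simp [hv0, this]
      · simp [hv1]
    · refine ⟨u 0 / v 0, ?_⟩
      ext i
      fin_cases i
      · simp [hv0]
      · simp only [Pi.smul_apply, smul_eq_mul, Fin.mk_one]
        field_simp
        linear_combination h0
  set α : F := (w 0 * v 1 - w 1 * v 0) / D with hα
  set β : F := (u 0 * w 1 - u 1 * w 0) / D with hβ
  have hw_eq : ∀ i, α * u i + β * v i = w i := by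
    intro i
    rw [hα, hβ]
    fin_cases i <;> field_simp <;> simp only [hD, Fin.zero_eta, Fin.mk_one] <;> ring
  have hα0 : α ≠ 0 := by
    intro h0
    apply hbc
    symm
    rw [Projectivization.mk_eq_mk_iff']
    exact ⟨β, funext fun i => by simpa [h0] using hw_eq i⟩
  have hβ0 : β ≠ 0 := by
    intro h0
    apply hac
    symm
    rw [Projectivization.mk_eq_mk_iff']
    exact ⟨α, funext fun i => by simpa [h0] using hw_eq i⟩
  have hdet : (!![α * u 0, β * v 0; α * u 1, β * v 1]).det ≠ 0 := by
    rw [Matrix.det_fin_two_of]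
    have : α * u 0 * (β * v 1) - β * v 0 * (α * u 1) = α * β * D := by rw [hD]; ring
    rw [this]
    exact mul_ne_zero (mul_ne_zero hα0 hβ0) hD0
  refine ⟨GeneralLinearGroup.mkOfDetNeZero _ hdet, ?_, ?_, ?_⟩
  · rw [Projectivization.smul_mk, Projectivization.mk_eq_mk_iff']
    refine ⟨α, funext fun i => ?_⟩
    fin_cases i <;>
      simp [Units.smul_def, GeneralLinearGroup.mkOfDetNeZero, Matrix.mulVec, vecHead, vecTail]
  · rw [Projectivization.smul_mk, Projectivization.mk_eq_mk_iff']
    refine ⟨β, funext fun i => ?_⟩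
    fin_cases i <;>
      simp [Units.smul_def, GeneralLinearGroup.mkOfDetNeZero, Matrix.mulVec, vecHead, vecTail]
  · rw [Projectivization.smul_mk, Projectivization.mk_eq_mk_iff']
    refine ⟨1, funext fun i => ?_⟩
    rw [one_smul, ← hw_eq]
    fin_cases i <;>
      simp [Units.smul_def, GeneralLinearGroup.mkOfDetNeZero, Matrix.mulVec, vecHead, vecTail]

/-- Fixing `[1:0]`, `[0:1]` and `[1:1]` forces a scalar matrix. -/
theorem mk_eq_one_of_fix_std (g : GL (Fin 2) F) (h1 : g • pInf F = pInf F)
    (h2 : g • pZero F = pZero F) (h3 : g • pOne F = pOne F) :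
    ProjGenLinGroup.mk g = 1 := by
  rw [Projectivization.smul_mk, Projectivization.mk_eq_mk_iff'] at h1 h2 h3
  obtain ⟨s, hs⟩ := h1
  obtain ⟨t, ht⟩ := h2
  obtain ⟨r, hr⟩ := h3
  have e1 : ∀ i, g.1 i 0 = s * ![1, 0] i := fun i => by
    have h := congrFun hs i
    simp only [Pi.smul_apply, smul_eq_mul] at h
    rw [h]
    simp [Units.smul_def, Matrix.mulVec, vecHead, vecTail]
  have e2 : ∀ i, g.1 i 1 = t * ![0, 1] i := fun i => by
    have h := congrFun ht i
    simp only [Pi.smul_apply, smul_eq_mul] at h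
    rw [h]
    simp [Units.smul_def, Matrix.mulVec, vecHead, vecTail]
  have e3 : ∀ i, g.1 i 0 + g.1 i 1 = r * ![1, 1] i := fun i => by
    have h := congrFun hr i
    simp only [Pi.smul_apply, smul_eq_mul] at h
    rw [h]
    simp [Units.smul_def, Matrix.mulVec, vecHead, vecTail]
  have a1 := e1 0; have a2 := e1 1; have a3 := e2 0; have a4 := e2 1
  have a5 := e3 0; have a6 := e3 1
  simp at a1 a2 a3 a4 a5 a6
  have hst : t = s := by linear_combination (a6 - a5) - a4 + a1 - a2 + a3
  rw [ProjGenLinGroup.mk_eq_one, GeneralLinearGroup.center_eq_range_scalar]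
  have hs0 : s ≠ 0 := by
    intro h0
    have := g.det.ne_zero
    apply this
    rw [GeneralLinearGroup.val_det_apply, Matrix.det_fin_two, a1, a2, h0]
    ring
  refine ⟨Units.mk0 s hs0, Units.ext ?_⟩
  ext i j
  fin_cases i <;> fin_cases j <;> simp [a1, a2, a3, a4, hst]

theorem pgl_smul_eq (g : GL (Fin 2) F) (x : ℙ F (Fin 2 → F)) :
    (ProjGenLinGroup.mk g : PGL(2, F)) • x = g • x := by
  induction x using Projectivization.ind with | _ v hv =>
  rfl

theorem sl_smul_eq (g : SL(2, F)) (x : ℙ F (Fin 2 → F)) :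
    (SpecialLinearGroup.toGL g : GL (Fin 2) F) • x = g • x := by
  induction x using Projectivization.ind with | _ v hv =>
  rfl

/-- A map from `Fin 3` onto three distinct points. -/
theorem std_distinct : pInf F ≠ pZero F ∧ pInf F ≠ pOne F ∧ pZero F ≠ pOne F := by
  refine ⟨?_, ?_, ?_⟩ <;>
  · rw [Ne, Projectivization.mk_eq_mk_iff']
    rintro ⟨a, ha⟩
    have h0 := congrFun ha 0
    have h1 := congrFun ha 1
    simp at h0 h1
    try simp [h0] at h1
    try simp [h1] at h0

theorem pgl_two_pretransitive :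
    MulAction.IsMultiplyPretransitive PGL(2, F) (ℙ F (Fin 2 → F)) 3 := by
  constructor
  intro x y
  have key : ∀ x : Fin 3 ↪ ℙ F (Fin 2 → F), ∃ g : PGL(2, F),
      g • pInf F = x 0 ∧ g • pZero F = x 1 ∧ g • pOne F = x 2 := by
    intro x
    obtain ⟨g, h1, h2, h3⟩ := exists_gl_three (x 0) (x 1) (x 2)
      (x.injective.ne (by decide)) (x.injective.ne (by decide)) (x.injective.ne (by decide))
    exact ⟨ProjGenLinGroup.mk g, by rw [pgl_smul_eq, h1], by rw [pgl_smul_eq, h2],
      by rw [pgl_smul_eq, h3]⟩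
  obtain ⟨g, g1, g2, g3⟩ := key x
  obtain ⟨h, h1, h2, h3⟩ := key y
  refine ⟨h * g⁻¹, ?_⟩
  ext i
  rw [Function.Embedding.smul_apply, mul_smul]
  fin_cases i
  · change h • g⁻¹ • x 0 = y 0
    rw [← g1, inv_smul_smul, h1]
  · change h • g⁻¹ • x 1 = y 1
    rw [← g2, inv_smul_smul, h2]
  · change h • g⁻¹ • x 2 = y 2
    rw [← g3, inv_smul_smul, h3]

theorem pgl_two_three_fix (g : PGL(2, F)) (a b c : ℙ F (Fin 2 → F)) (hab : a ≠ b) (hac : a ≠ c)
    (hbc : b ≠ c) (ha : g • a = a) (hb : g • b = b) (hc : g • c = c) : g = 1 := by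
  obtain ⟨h, rfl, rfl, rfl⟩ := exists_gl_three a b c hab hac hbc
  induction g using ProjGenLinGroup.induction_on with | mk g =>
  rw [pgl_smul_eq] at ha hb hc
  have key := mk_eq_one_of_fix_std (h⁻¹ * g * h) (by rw [mul_smul, mul_smul, ha, inv_smul_smul])
    (by rw [mul_smul, mul_smul, hb, inv_smul_smul]) (by rw [mul_smul, mul_smul, hc, inv_smul_smul])
  rw [map_mul, map_mul, map_inv] at key
  exact (conj_eq_one_iff (a := (ProjGenLinGroup.mk h)⁻¹)).1 (by rwa [inv_inv])

/-- `SL(2,q)` is 3-transitive on the projective line iff the characteristic is 2. -/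
theorem sl_two_three_pretransitive_iff [Fintype F] :
    MulAction.IsMultiplyPretransitive SL(2, F) (ℙ F (Fin 2 → F)) 3 ↔ ringChar F = 2 := by
  constructor
  · intro hT
    by_contra hne
    obtain ⟨d, hd⟩ := FiniteField.exists_nonsquare hne
    have hd0 : d ≠ 0 := by rintro rfl; exact hd ⟨0, by simp⟩
    let pd : ℙ F (Fin 2 → F) :=
      Projectivization.mk F ![d, 1] (vec2_ne_zero (Or.inl hd0))
    have hdist : pInf F ≠ pd ∧ pZero F ≠ pd := by
      refine ⟨?_, ?_⟩ <;>
      · rw [Ne, Projectivization.mk_eq_mk_iff']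
        rintro ⟨a, ha⟩
        have h0 := congrFun ha 0
        have h1 := congrFun ha 1
        simp at h0 h1
        simp_all
    have hinj : ∀ c : ℙ F (Fin 2 → F), pInf F ≠ c → pZero F ≠ c →
        Function.Injective ![pInf F, pZero F, c] := by
      intro c h1 h2 i j h
      fin_cases i <;> fin_cases j <;> first | rfl | simp_all [std_distinct.1, std_distinct.1.symm,
        h1.symm, h2.symm]
    obtain ⟨g, hg⟩ := hT.exists_smul_eq ⟨_, hinj (pOne F) std_distinct.2.1 std_distinct.2.2⟩
      ⟨_, hinj pd hdist.1 hdist.2⟩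
    have k1 := DFunLike.congr_fun hg 0
    have k2 := DFunLike.congr_fun hg 1
    have k3 := DFunLike.congr_fun hg 2
    simp only [Function.Embedding.smul_apply] at k1 k2 k3
    change g • pInf F = pInf F at k1
    change g • pZero F = pZero F at k2
    change g • pOne F = pd at k3
    rw [Projectivization.smul_mk, Projectivization.mk_eq_mk_iff'] at k1 k2 k3
    obtain ⟨s, hs⟩ := k1
    obtain ⟨t, ht⟩ := k2
    obtain ⟨r, hr⟩ := k3
    have b1 := congrFun hs 1; have b2 := congrFun ht 0
    have b5 := congrFun hr 0; have b6 := congrFun hr 1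
    simp [Matrix.SpecialLinearGroup.smul_def, Matrix.mulVec, vecHead, vecTail] at b1 b2 b5 b6
    have hdet : g.1 0 0 * g.1 1 1 - g.1 0 1 * g.1 1 0 = 1 := by
      rw [← Matrix.det_fin_two]; exact g.2
    have hr0 : r ≠ 0 := by
      intro h0
      rw [h0, zero_mul] at b5
      rw [h0] at b6
      apply zero_ne_one (α := F)
      linear_combination hdet + g.1 1 1 * b5 - g.1 0 1 * b6
    exact hd ⟨1 / r, by
      field_simp
      linear_combination hdet + r * b5 + (g.1 0 0 + g.1 0 1) * b6 -
        (2 * g.1 0 1 + g.1 0 0) * b1 - g.1 1 1 * b2⟩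
  · intro h2
    have := ringChar.charP F
    rw [h2] at this
    have hT := pgl_two_pretransitive (F := F)
    constructor
    intro x y
    obtain ⟨g, hg⟩ := hT.exists_smul_eq x y
    induction g using ProjGenLinGroup.induction_on with | mk g =>
    obtain ⟨u, hu⟩ := FiniteField.isSquare_of_char_two h2 ((g.det⁻¹ : Fˣ) : F)
    have hu0 : u ≠ 0 := by
      rintro rfl
      simp at hu
      exact g.det.ne_zero hu
    have hdet : (u • g.1).det = 1 := by
      rw [Matrix.det_smul, Fintype.card_fin, pow_two, ← hu, ← GeneralLinearGroup.val_det_apply,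
        ← Units.val_mul, inv_mul_cancel, Units.val_one]
    let m : SL(2, F) := ⟨u • g.1, hdet⟩
    refine ⟨m, ?_⟩
    ext i
    have hi := DFunLike.congr_fun hg i
    rw [Function.Embedding.smul_apply] at hi ⊢
    rw [← hi, pgl_smul_eq, ← sl_smul_eq]
    have he : (SpecialLinearGroup.toGL m : GL (Fin 2) F) =
        g * GeneralLinearGroup.scalar (Fin 2) (Units.mk0 u hu0) := by
      apply Units.ext
      ext a b
      simp [Matrix.mul_apply, Fin.sum_univ_two]
      fin_cases b <;> simp [m, mul_comm]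
    rw [← pgl_smul_eq, ← pgl_smul_eq (g := g), he, map_mul, ProjGenLinGroup.mk_scalar, mul_one]

end CfsgLib.Linear
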